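import Cfsg.Agent.Lib.FischerUnique24.Model
import Cfsg.Agent.Lib.FischerUnique23.Involutions
import Cfsg.Agent.Lib.FischerPresented.Fi22Outer

/-!
A group with a subgroup of index two and a class of outer involutions whose inner centralisers are of
type M(23): the pair of the class attached to an inner transposition.
-/

set_option autoImplicit false
set_option linter.unusedSectionVars false
set_option maxRecDepth 100000

namespace Cfsg.Agent.FischerAut24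

open Cfsg.Agent.Fischer.Factor
open Cfsg.Agent.FischerUnique24 (Is23)
open Cfsg.Agent.Fi22Local (GG)
open scoped commutatorElement

universe u

variable {X : Type u} [Group X]

theorem commute_iff_conj_eq {g x : X} : Commute g x ↔ g * x * g⁻¹ = x :=
  ⟨fun h => by rw [h.eq, mul_inv_cancel_right], fun h => mul_inv_eq_iff_eq_mul.1 h⟩

theorem mem_cent {g x : X} : g ∈ Subgroup.centralizer ({x} : Set X) ↔ Commute g x :=
  Subgroup.mem_centralizer_singleton_iff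

/-- The inner part of a centraliser. -/
def Yc (G₀ : Subgroup X) (x : X) : Subgroup X := G₀ ⊓ Subgroup.centralizer ({x} : Set X)

/-- The inner part of the centraliser of two elements. -/
def Kx (G₀ : Subgroup X) (x k : X) : Subgroup X := Yc G₀ x ⊓ Subgroup.centralizer ({k} : Set X)

theorem mem_Yc {G₀ : Subgroup X} {x g : X} : g ∈ Yc G₀ x ↔ g ∈ G₀ ∧ Commute g x :=
  and_congr Iff.rfl mem_cent

theorem mem_Kx {G₀ : Subgroup X} {x k g : X} : g ∈ Kx G₀ x k ↔ g ∈ Yc G₀ x ∧ Commute g k :=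
  and_congr Iff.rfl mem_cent

/-- Two members at distance at most two. -/
def Near (E : Set X) (a b : X) : Prop := ∃ c ∈ E, Commute a c ∧ Commute c b

/-- The class, the transpositions in the inner centralisers and what is known about them. -/
structure Sys (G₀ : Subgroup X) (E : Set X) (T : X → Set X) : Prop where
  idx : G₀.index = 2
  sq : ∀ x ∈ E, x * x = 1
  out : ∀ x ∈ E, x ∉ G₀
  conj : ∀ g : X, ∀ x ∈ E, g * x * g⁻¹ ∈ E
  trans : ∀ x ∈ E, ∀ y ∈ E, ∃ g ∈ G₀, g * x * g⁻¹ = y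
  mem : ∀ x ∈ E, ∀ k ∈ T x, k ∈ Yc G₀ x
  Tconj : ∀ g : X, ∀ x ∈ E, ∀ k ∈ T x, g * k * g⁻¹ ∈ T (g * x * g⁻¹)
  m23 : ∀ x ∈ E, Is23 (X := ↥(Yc G₀ x)) {y | (y : X) ∈ T x}
  half : ∀ x ∈ E, ∀ k ∈ T x,
    (Kx G₀ x k).relIndex (G₀ ⊓ Subgroup.centralizer ({k} : Set X)) = 2
  cent : ∀ x ∈ E, ∀ k ∈ T x, ∀ g ∈ G₀, Commute g k → (∀ y ∈ Kx G₀ x k, Commute g y) → g = 1 ∨ g = k

/-- A member of one of the classes of transpositions. -/
def InT (E : Set X) (T : X → Set X) (k : X) : Prop := ∃ x ∈ E, k ∈ T x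

/-- The passage from the joint centraliser to Fi22. -/
structure Frame (G₀ : Subgroup X) (T : X → Set X) (x k : X) where
  π : ↥(Kx G₀ x k) →* GG
  surj : Function.Surjective π
  ker : ∀ g, π g = 1 ↔ (g : X) = 1 ∨ (g : X) = k
  mem : ∀ g : Kx G₀ x k, (g : X) ∈ T x → (g : X) ≠ k → π g ∈ FischerPresented.Fi22Class.D
  lift : ∀ e ∈ FischerPresented.Fi22Class.D, ∃ g : Kx G₀ x k, (g : X) ∈ T x ∧ (g : X) ≠ k ∧ π g = e

theorem map_loc {G : Type u} [Group G] {D : Set G} {d : G} (L : FischerUnique23.Inv.Loc D d)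
    (e : G ≃* G) (he : ∀ y, e y ∈ D ↔ y ∈ D) : Nonempty (FischerUnique23.Inv.Loc D (e d)) := by
  have hcm : ∀ y, e y ∈ Subgroup.centralizer ({e d} : Set G) ↔ y ∈ Subgroup.centralizer ({d} : Set G) := fun y => by
    rw [mem_cent, mem_cent]
    exact ⟨fun h => by simpa using h.map e.symm.toMonoidHom, fun h => h.map e.toMonoidHom⟩
  have hnb : ∀ y, e y ∈ Nb D (e d) ↔ y ∈ Nb D d := fun y => by
    constructor
    · rintro ⟨h1, h2, h3⟩
      exact ⟨(he y).1 h1, fun h => h2 (congrArg e h), by simpa using h3.map e.symm.toMonoidHom⟩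
    · rintro ⟨h1, h2, h3⟩
      exact ⟨(he y).2 h1, fun h => h2 (e.injective h), h3.map e.toMonoidHom⟩
  let r : ↥(Subgroup.centralizer ({e d} : Set G)) →* ↥(Subgroup.centralizer ({d} : Set G)) :=
    MonoidHom.mk' (fun g => ⟨e.symm g, (hcm _).1 (by rw [e.apply_symm_apply]; exact g.2)⟩)
      fun a b => Subtype.ext (map_mul e.symm (a : G) (b : G))
  have hr : ∀ y : ↥(Subgroup.centralizer ({d} : Set G)), r ⟨e y, (hcm _).2 y.2⟩ = y := fun y =>
    Subtype.ext (e.symm_apply_apply _)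
  refine ⟨{
    π := L.π.comp r
    surj := fun g => ?_
    ker := fun g => ?_
    mem := fun y hy => L.mem _ ((hnb _).1 (by simpa [r] using hy))
    lift := fun q hq => ?_
    no_twist := fun y hy hm => ?_
    six := ?_ }⟩
  · obtain ⟨y, rfl⟩ := L.surj g
    exact ⟨⟨e y, (hcm _).2 y.2⟩, congrArg L.π (hr y)⟩
  · rw [MonoidHom.comp_apply, L.ker]
    show e.symm (g : G) = 1 ∨ e.symm (g : G) = d ↔ _
    rw [e.symm_apply_eq, e.symm_apply_eq, map_one]
  · obtain ⟨y, hy, rfl⟩ := L.lift q hq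
    exact ⟨⟨e y, (hcm _).2 y.2⟩, (hnb _).2 hy, congrArg L.π (hr y)⟩
  · obtain ⟨w, rfl⟩ := e.surjective y
    rw [← map_mul, he] at hm
    exact L.no_twist w ((hnb w).1 hy) hm
  · obtain ⟨b₁, b₂, b₃, b₄, b₅, b₆, h1, h2, h3, h4⟩ := L.six
    refine ⟨e b₁, e b₂, e b₃, e b₄, e b₅, e b₆, h1.map e.injective, fun x hx => ?_, fun x hx y hy => ?_,
      by rw [h4]; simp only [map_mul]⟩
    · obtain ⟨b, hb, rfl⟩ := List.mem_map.1 (show x ∈ [b₁, b₂, b₃, b₄, b₅, b₆].map e from hx)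
      exact (hnb b).2 (h2 b hb)
    · obtain ⟨b, hb, rfl⟩ := List.mem_map.1 (show x ∈ [b₁, b₂, b₃, b₄, b₅, b₆].map e from hx)
      obtain ⟨c, hc, rfl⟩ := List.mem_map.1 (show y ∈ [b₁, b₂, b₃, b₄, b₅, b₆].map e from hy)
      exact (h3 b hb c hc).map e.toMonoidHom

namespace Sys

variable [Finite X] {G₀ : Subgroup X} {E : Set X} {T : X → Set X} (S : Sys G₀ E T)
include S

theorem norm (g : X) {h : X} (hh : h ∈ G₀) : g * h * g⁻¹ ∈ G₀ :=
  (Subgroup.normal_of_index_eq_two S.idx).conj_mem h hh g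

theorem mul_out {a b : X} (ha : a ∉ G₀) (hb : b ∉ G₀) : a * b ∈ G₀ :=
  (Subgroup.mul_mem_iff_of_index_two S.idx).2 (iff_of_false ha hb)

theorem inv_eq {x : X} (hx : x ∈ E) : x⁻¹ = x := inv_eq_of_mul_eq_one_right (S.sq x hx)

theorem exists_loc {x : X} (hx : x ∈ E) {k : ↥(Yc G₀ x)} (hk : (k : X) ∈ T x) :
    Nonempty (FischerUnique23.Inv.Loc {y : ↥(Yc G₀ x) | (y : X) ∈ T x} k) := by
  have h := S.m23 x hx
  obtain ⟨-, d, hd, ⟨L⟩⟩ := FischerUnique23.Inv.exists_loc h.group h.prim h.type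
  obtain ⟨g, hg⟩ := h.prim.1 d hd k hk
  obtain ⟨L'⟩ := map_loc L (MulAut.conj g) fun y =>
    ⟨fun hy => by simpa [MulAut.conj_apply, mul_assoc] using h.group.2.1 g⁻¹ _ hy, fun hy => h.group.2.1 g y hy⟩
  exact ⟨hg ▸ L'⟩

theorem sq_T {x k : X} (hx : x ∈ E) (hk : k ∈ T x) : k * k = 1 :=
  congrArg Subtype.val (Fischer.TSet.sq (S.m23 x hx).group.1
    (a := ⟨k, S.mem x hx k hk⟩) hk)

theorem ne_one {x k : X} (hx : x ∈ E) (hk : k ∈ T x) : k ≠ 1 := fun e =>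
  Fischer.TSet.ne_one (S.m23 x hx).group.1 (a := ⟨k, S.mem x hx k hk⟩) hk (Subtype.ext e)

theorem comm_T {x k : X} (hx : x ∈ E) (hk : k ∈ T x) : Commute x k :=
  (mem_Yc.1 (S.mem x hx k hk)).2.symm

theorem Tmem_G {x k : X} (hx : x ∈ E) (hk : k ∈ T x) : k ∈ G₀ := (mem_Yc.1 (S.mem x hx k hk)).1

/-- The joint centraliser is the derived group of the inner centraliser of the transposition. -/
theorem Kx_eq {x k : X} (hx : x ∈ E) (hk : k ∈ T x) : Kx G₀ x k =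
    ⁅G₀ ⊓ Subgroup.centralizer ({k} : Set X), G₀ ⊓ Subgroup.centralizer ({k} : Set X)⁆ := by
  set C := G₀ ⊓ Subgroup.centralizer ({k} : Set X) with hC
  have hle : Kx G₀ x k ≤ C := fun g hg =>
    ⟨(mem_Yc.1 (mem_Kx.1 hg).1).1, mem_cent.2 (mem_Kx.1 hg).2⟩
  refine le_antisymm ?_ ?_
  · have h := S.m23 x hx
    set k' : ↥(Yc G₀ x) := ⟨k, S.mem x hx k hk⟩
    obtain ⟨hcl, hq, -⟩ := FischerUnique23.centralizer_facts h.group h.prim h.type (d := k') hk
    have hm : (Subgroup.centralizer ({k'} : Set ↥(Yc G₀ x))).map (Yc G₀ x).subtype = Kx G₀ x k := by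
      ext g
      rw [mem_Kx]
      constructor
      · rintro ⟨y, hy, rfl⟩
        exact ⟨y.2, (mem_cent.1 hy).map (Yc G₀ x).subtype⟩
      · rintro ⟨hg, hgk⟩
        exact ⟨⟨g, hg⟩, mem_cent.2 (Subtype.ext hgk.eq), rfl⟩
    rw [hcl] at hq
    haveI := hq.1
    have hp : ⁅Kx G₀ x k, Kx G₀ x k⁆ = Kx G₀ x k := by
      set H := Subgroup.centralizer ({k'} : Set ↥(Yc G₀ x))
      have e : ⁅H, H⁆ = H := by
        conv_lhs => rw [← H.range_subtype, MonoidHom.range_eq_map, ← Subgroup.map_commutator,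
          ← commutator_def, Group.IsPerfect.commutator_eq_top, ← MonoidHom.range_eq_map, H.range_subtype]
      rw [← hm, ← Subgroup.map_commutator, e]
    rw [← hp]
    exact Subgroup.commutator_mono hle hle
  · rw [Subgroup.commutator_le]
    intro a ha b hb
    have hi : ((Kx G₀ x k).subgroupOf C).index = 2 := S.half x hx k hk
    haveI := Subgroup.normal_of_index_eq_two hi
    have : (⁅(⟨a, ha⟩ : C), ⟨b, hb⟩⁆ : C) ∈ (Kx G₀ x k).subgroupOf C := by
      rw [commutatorElement_def]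
      simp only [Subgroup.mul_mem_iff_of_index_two hi, inv_mem_iff]
      tauto
    simpa [Subgroup.mem_subgroupOf, commutatorElement_def] using this

/-- A transposition lies in exactly two of the classes: the pair. -/
theorem pair_cases {x y k : X} (hx : x ∈ E) (hk : k ∈ T x) (hy : y ∈ E) (hk' : k ∈ T y) :
    y = x ∨ y = x * k := by
  have hxy : x * y ∈ G₀ := S.mul_out (S.out x hx) (S.out y hy)
  have hc : ∀ g ∈ Kx G₀ x k, Commute (x * y) g := fun g hg => by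
    have hg' : g ∈ Kx G₀ y k := by rw [S.Kx_eq hy hk', ← S.Kx_eq hx hk]; exact hg
    exact ((mem_Yc.1 (mem_Kx.1 hg).1).2.symm).mul_left (mem_Yc.1 (mem_Kx.1 hg').1).2.symm
  rcases S.cent x hx k hk _ hxy ((S.comm_T hx hk).mul_left (S.comm_T hy hk')) hc with e | e
  · left
    rw [mul_eq_one_iff_inv_eq, S.inv_eq hx] at e
    exact e.symm
  · right
    rw [← e, ← mul_assoc, S.sq x hx, one_mul]

/-- The other member of the pair. -/
theorem pair_other {x k : X} (hx : x ∈ E) (hk : k ∈ T x) : x * k ∈ E ∧ k ∈ T (x * k) := by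
  set C := G₀ ⊓ Subgroup.centralizer ({k} : Set X) with hC
  obtain ⟨σ, hσC, hσ⟩ : ∃ σ ∈ C, σ ∉ Kx G₀ x k := by
    by_contra h
    push Not at h
    have := S.half x hx k hk
    rw [Subgroup.relIndex_eq_one.2 h] at this
    omega
  have hσk : σ * k * σ⁻¹ = k := commute_iff_conj_eq.1 (mem_cent.1 hσC.2)
  have hy := S.conj σ x hx
  have hk' : k ∈ T (σ * x * σ⁻¹) := by
    have := S.Tconj σ x hx k hk
    rwa [hσk] at this
  rcases S.pair_cases hx hk hy hk' with e | e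
  · exact absurd (mem_Kx.2 ⟨mem_Yc.2 ⟨hσC.1, commute_iff_conj_eq.2 e⟩, mem_cent.1 hσC.2⟩) hσ
  · exact ⟨e ▸ hy, e ▸ hk'⟩

theorem Kx_other {x k : X} (hx : x ∈ E) (hk : k ∈ T x) : Kx G₀ (x * k) k = Kx G₀ x k := by
  obtain ⟨h1, h2⟩ := S.pair_other hx hk
  rw [S.Kx_eq h1 h2, S.Kx_eq hx hk]

theorem exists_frame {x k : X} (hx : x ∈ E) (hk : k ∈ T x) : Nonempty (Frame G₀ T x k) := by
  obtain ⟨L⟩ := S.exists_loc hx (k := ⟨k, S.mem x hx k hk⟩) hk
  set k' : ↥(Yc G₀ x) := ⟨k, S.mem x hx k hk⟩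
  let r : ↥(Kx G₀ x k) →* ↥(Subgroup.centralizer ({k'} : Set ↥(Yc G₀ x))) :=
    MonoidHom.mk' (fun g => ⟨⟨g, g.2.1⟩, mem_cent.2 (Subtype.ext (mem_Kx.1 g.2).2.eq)⟩) fun _ _ => rfl
  have hr : ∀ y : ↥(Subgroup.centralizer ({k'} : Set ↥(Yc G₀ x))),
      ∃ g, r g = y := fun y =>
    ⟨⟨y.1.1, mem_Kx.2 ⟨y.1.2, (mem_cent.1 y.2).map (Yc G₀ x).subtype⟩⟩, rfl⟩
  have hnb : ∀ g : Kx G₀ x k, (g : X) ∈ T x → (g : X) ≠ k →
      ((r g : ↥(Yc G₀ x))) ∈ Nb {y : ↥(Yc G₀ x) | (y : X) ∈ T x} k' := fun g hg hne =>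
    ⟨hg, fun e => hne (congrArg Subtype.val e), Subtype.ext (mem_Kx.1 g.2).2.symm.eq⟩
  refine ⟨⟨L.π.comp r, fun q => ?_, fun g => ?_, fun g hg hne => L.mem _ (hnb g hg hne), fun q hq => ?_⟩⟩
  · obtain ⟨y, rfl⟩ := L.surj q
    obtain ⟨g, rfl⟩ := hr y
    exact ⟨g, rfl⟩
  · rw [MonoidHom.comp_apply, L.ker]
    exact or_congr Subtype.ext_iff Subtype.ext_iff
  · obtain ⟨y, hy, rfl⟩ := L.lift q hq
    obtain ⟨g, rfl⟩ := hr y
    exact ⟨g, hy.1, fun e => hy.2.1 (Subtype.ext e), rfl⟩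

end Sys

end Cfsg.Agent.FischerAut24
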