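import Cfsg.Agent.Lib.FischerAut24.Start

/-!
Two members centralising the central involution have a common commuting member: in the unitary module the
members are attached to short vectors, and two short vectors have a common perpendicular short vector.
-/

set_option autoImplicit false
set_option linter.unusedSectionVars false
set_option maxRecDepth 100000

namespace Cfsg.Agent.FischerAut24

open Cfsg.Agent.RigidGraph.He Cfsg.Agent.U43InU62 Cfsg.Agent.LargeExtra Cfsg.Agent.LargeFischer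
open Cfsg.Agent.LargeFischer.Big Cfsg.Agent.LargeFischer.Six

theorem col_ratio : ∀ a b c e : K4, a ≠ 0 → c ≠ 0 → b * (a * a) = e * (c * c) →
    ∃ l : K4, l ≠ 0 ∧ c = l * a ∧ e = l * b := by decide +kernel

theorem col_zero : ∀ b e : K4, (b = 0 ↔ e = 0) → ∃ l : K4, l ≠ 0 ∧ e = l * b := by decide +kernel

/-- Two columns agree projectively. -/
theorem exists_col {x : V6} (hx : In1 x) (y : V6) :
    ∃ i j : Fin 6, i ≠ j ∧ ∃ l : K4, l ≠ 0 ∧ x j = l * x i ∧ y j = l * y i := by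
  rcases hx with h | ⟨h, -⟩
  · set Z := (Finset.univ : Finset (Fin 6)).filter fun k => x k = 0 with hZ
    have hc : Z.card = 4 := by
      have := Finset.card_filter_add_card_filter_not (s := (Finset.univ : Finset (Fin 6))) fun k => x k = 0
      rw [← hZ, Finset.card_univ, Fintype.card_fin] at this
      unfold wt at h
      simp only [ne_eq] at h
      omega
    obtain ⟨i, hi, j, hj, hij, e⟩ := Finset.exists_ne_map_eq_of_card_lt_of_maps_to
      (t := (Finset.univ : Finset Bool)) (s := Z) (f := fun k => decide (y k = 0))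
      (by rw [hc]; decide) (fun k _ => Finset.mem_coe.2 (Finset.mem_univ _))
    obtain ⟨l, hl, hy⟩ := col_zero (y i) (y j) (decide_eq_decide.1 e)
    exact ⟨i, j, hij, l, hl, by
      rw [(Finset.mem_filter.1 hi).2, (Finset.mem_filter.1 hj).2, mul_zero], hy⟩
  · obtain ⟨i, -, j, -, hij, e⟩ := Finset.exists_ne_map_eq_of_card_lt_of_maps_to
      (t := (Finset.univ : Finset K4)) (s := (Finset.univ : Finset (Fin 6))) (f := fun k => y k * (x k * x k))
      (by decide) (fun k _ => Finset.mem_coe.2 (Finset.mem_univ _))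
    obtain ⟨l, hl, h1, h2⟩ := col_ratio _ _ _ _ (all_ne h i) (all_ne h j) e
    exact ⟨i, j, hij, l, hl, h1, h2⟩

/-- A short vector perpendicular to a short vector and another one. -/
theorem exists_perp {x : V6} (hx : In1 x) (y : V6) : ∃ u : V6, In1 u ∧ hf u x = 0 ∧ hf u y = 0 := by
  obtain ⟨i, j, hij, l, hl, h1, h2⟩ := exists_col hx y
  refine ⟨Pi.single i (l * l) + Pi.single j 1, Or.inl ?_, ?_⟩
  · refine Finset.card_eq_two.2 ⟨i, j, hij, ?_⟩
    ext k
    rw [Finset.mem_filter, Finset.mem_insert, Finset.mem_singleton]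
    by_cases hi : k = i
    · subst hi; simp [hij, mul_ne_zero hl hl]
    by_cases hj : k = j
    · subst hj; simp [hij.symm]
    simp [hi, hj]
  have key : ∀ v : V6, v j = l * v i → hf (Pi.single i (l * l) + Pi.single j 1) v = 0 := fun v hv => by
    show ∑ k, ((Pi.single i (l * l) + Pi.single j 1 : V6) k) * v k ^ 2 = 0
    simp only [Pi.add_apply, add_mul, Finset.sum_add_distrib, Pi.single_apply, ite_mul, zero_mul,
      Finset.sum_ite_eq', Finset.mem_univ, if_true, hv, one_mul, mul_pow, ← pow_two]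
    exact k4_two _
  exact ⟨key x h1, key y h2⟩

universe u

variable {X : Type u} [Group X] [Finite X] {G₀ : Subgroup X} {z : ↥G₀}
  {Q : Subgroup ↥(Subgroup.centralizer ({z} : Set ↥G₀))} [Q.Normal] (S : Data z Q)

/-- The perpendicular of the vector of a member centralises it. -/
theorem fix_perp {d : X} (hdC : ∀ b ∈ S.C, Commute ((b : ↥G₀) : X) d)
    (c : ↥(Subgroup.centralizer ({z} : Set ↥G₀))) (u : ↥(QG Q))
    (hu : hf (S.D.vec u) (S.D.co.r6 (QuotientGroup.mk c) (bA 0)) = 0) :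
    Commute ((u : ↥G₀) : X) ((c.1 : X) * d * (c.1 : X)⁻¹) := by
  have e2 : S.eg 2 = (uq S.cv (bA 0) : ↥G₀) := by rw [← vd_eight.2.1]; exact S.eg_even (x := 1) (by norm_num)
  have e4 : S.eg 4 = (uq S.cv (K4.w • bA 0) : ↥G₀) := by
    rw [← vd_eight.2.2.1]; exact S.eg_even (x := 2) (by norm_num)
  set x := S.D.co.r6 (QuotientGroup.mk c) (bA 0) with hx
  have hcom : ∀ w : V6, hf (S.D.vec u) (S.D.co.r6 (QuotientGroup.mk c) w) = 0 →
      c.1⁻¹ * (u : ↥G₀) * c.1 * (uq S.cv w : ↥G₀) = (uq S.cv w : ↥G₀) * (c.1⁻¹ * u * c.1) := fun w hw => by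
    have h := (S.comm_q u (S.D.ctx.conjQ c (uq S.cv w))).2 (by
      rw [S.D.vec_conj, vec_uq S.cv S.hc, hf_symm_zero hw, hw, add_zero])
    change (u : ↥G₀) * (c.1 * (uq S.cv w : ↥G₀) * c.1⁻¹) = c.1 * (uq S.cv w : ↥G₀) * c.1⁻¹ * u at h
    calc c.1⁻¹ * (u : ↥G₀) * c.1 * (uq S.cv w : ↥G₀)
        = c.1⁻¹ * ((u : ↥G₀) * (c.1 * (uq S.cv w : ↥G₀) * c.1⁻¹)) * c.1 := by group
      _ = _ := by rw [h]; group
  have hC : c.1⁻¹ * (u : ↥G₀) * c.1 ∈ S.C := by
    refine S.mem_C.2 ⟨?_, ?_⟩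
    · rw [e2]; exact hcom _ hu
    · rw [e4]
      refine hcom _ ?_
      rcases S.D.co.r6_semi (QuotientGroup.mk c) with h | h <;> rw [h, hf_smulr, hu, mul_zero]
  have := (hdC _ hC).map (MulAut.conj (c.1 : X)).toMonoidHom
  simpa [mul_assoc] using this

variable {E : Set X} {T : X → Set X}

/-- A short involution of Q is a transposition at some member. -/
theorem inT_short {d : X} {t : ↥(Yc G₀ d)} (ht : (t : X) = (S.eg 2 : ↥G₀)) (u : ↥(QG Q))
    (hu : In1 (S.D.vec u)) : InT (conjugatesOf d) (Trp d (Subtype.val '' conjugatesOf t)) ((u : ↥G₀) : X) := by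
  have e2 : S.eg 2 = (uq S.cv (bA 0) : ↥G₀) := by rw [← vd_eight.2.1]; exact S.eg_even (x := 1) (by norm_num)
  have hne : S.D.vec u ≠ 0 := fun e => by rw [e] at hu; exact absurd hu (by decide +kernel)
  obtain ⟨c, hc⟩ := S.D.exists_r6_in1 (u := S.D.vec (uq S.cv (bA 0)))
    (by rw [vec_uq S.cv S.hc]; decide +kernel) hu
  obtain ⟨m, hm⟩ := S.D.conj_of_r6 hc (fun e => hne (S.D.vec_eq_zero.2 (Or.inl e)))
    (fun e => hne (S.D.vec_eq_zero.2 (Or.inr e)))
  rw [← e2] at hm
  refine ⟨(m.1 : X) * d * (m.1 : X)⁻¹, isConj_iff.2 ⟨m.1, rfl⟩, m.1, rfl, t, mem_conjugatesOf_self, ?_⟩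
  rw [ht, ← hm]
  simp only [Subgroup.coe_mul, Subgroup.coe_inv]
  group

/-- Members centralising the central involution are pairwise near. -/
theorem nearPole {d : X} {t : ↥(Yc G₀ d)} (ht : (t : X) = (S.eg 2 : ↥G₀)) (hdz : Commute d (z : X))
    (hdC : ∀ b ∈ S.C, Commute ((b : ↥G₀) : X) d)
    (H : Sys G₀ (conjugatesOf d) (Trp d (Subtype.val '' conjugatesOf t)))
    (P : Pole G₀ (conjugatesOf d) (Trp d (Subtype.val '' conjugatesOf t)) (z : X)) :
    NearPole (conjugatesOf d) (z : X) := by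
  have hd : d ∈ conjugatesOf d := mem_conjugatesOf_self
  have key : ∀ f ∈ conjugatesOf d, Commute (z : X) f →
      ∃ c : ↥(Subgroup.centralizer ({z} : Set ↥G₀)), (c.1 : X) * d * (c.1 : X)⁻¹ = f := by
    intro f hf hzf
    obtain ⟨g, hg, rfl⟩ := H.trans d hd f hf
    have hc : Commute (g⁻¹ * (z : X) * g) d := by
      simpa [mul_assoc] using hzf.map (MulAut.conj g⁻¹).toMonoidHom
    have h3 : Three (Trp d (Subtype.val '' conjugatesOf t)) d (g⁻¹ * (z : X) * g) := by
      obtain ⟨a, ha, b, hb, e, he, hab, hae, hbe, cab, cae, cbe, hz⟩ := H.pole_three P hf hzf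
      have back : g⁻¹ * (g * d * g⁻¹) * g⁻¹⁻¹ = d := by group
      have hT : ∀ k ∈ Trp d (Subtype.val '' conjugatesOf t) (g * d * g⁻¹),
          g⁻¹ * k * g⁻¹⁻¹ ∈ Trp d (Subtype.val '' conjugatesOf t) d := fun k hk => by
        have := H.Tconj g⁻¹ _ hf k hk
        rwa [back] at this
      refine ⟨_, hT a ha, _, hT b hb, _, hT e he,
        fun h => hab (mul_left_cancel (mul_right_cancel h)), fun h => hae (mul_left_cancel (mul_right_cancel h)),
        fun h => hbe (mul_left_cancel (mul_right_cancel h)), cab.map (MulAut.conj g⁻¹).toMonoidHom,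
        cae.map (MulAut.conj g⁻¹).toMonoidHom, cbe.map (MulAut.conj g⁻¹).toMonoidHom, by rw [hz]; group⟩
    obtain ⟨m, hm, e⟩ := H.three_conj hd h3 (H.pole_three P hd hdz.symm)
    have hm0 := (mem_Yc.1 hm).1
    refine ⟨⟨⟨g * m⁻¹, mul_mem hg (inv_mem hm0)⟩, Subgroup.mem_centralizer_singleton_iff.2 (Subtype.ext ?_)⟩, ?_⟩
    · show g * m⁻¹ * (z : X) = z * (g * m⁻¹)
      conv_lhs => rw [← e]
      group
    · show g * m⁻¹ * d * (g * m⁻¹)⁻¹ = _
      rw [show g * m⁻¹ * d * (g * m⁻¹)⁻¹ = g * (m⁻¹ * d * m⁻¹⁻¹) * g⁻¹ by group,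
        commute_iff_conj_eq.1 (mem_Yc.1 hm).2.inv_left]
  intro a ha b hb hza hzb
  obtain ⟨c, rfl⟩ := key a ha hza
  obtain ⟨c', rfl⟩ := key b hb hzb
  obtain ⟨v, hv, h1, h2⟩ := exists_perp
    (S.D.co.in1_r6 (QuotientGroup.mk c) (show In1 (bA 0) by decide +kernel))
    (S.D.co.r6 (QuotientGroup.mk c') (bA 0))
  have hvec : S.D.vec (uq S.cv v) = v := vec_uq S.cv S.hc v
  exact H.near_inT P (inT_short S ht (uq S.cv v) (hvec.symm ▸ hv)) ha hb
    (fix_perp S hdC c _ (hvec.symm ▸ h1)) (fix_perp S hdC c' _ (hvec.symm ▸ h2))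

end Cfsg.Agent.FischerAut24
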