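import Cfsg.Agent.Lib.FischerAut24.Local

/-!
Any two members of the class have a common commuting member: the dihedral groups of a member and a
transposition, and the closure of the members at distance two under adjacency.
-/

set_option autoImplicit false
set_option linter.unusedSectionVars false

namespace Cfsg.Agent.FischerAut24

universe u

variable {X : Type u} [Group X]

/-- The outcome of the dihedral group of a transposition and a member. -/
def Bad (G₀ : Subgroup X) (E : Set X) (x a e : X) : Prop :=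
  ∃ f ∈ E, f ≠ x ∧ f ≠ a ∧ Commute f x ∧ Commute f a ∧ f * (x * a) ∉ G₀ ∧
    f * (x * a) * (f * (x * a)) = 1 ∧ Commute (f * (x * a)) e ∧
    ∀ y : X, Commute y (x * a) → Commute y e → Commute y (f * (x * a))

/-- The members at the pole are pairwise near. -/
def NearPole (E : Set X) (z : X) : Prop :=
  ∀ a ∈ E, ∀ b ∈ E, Commute z a → Commute z b → Near E a b

theorem near_conj {E : Set X} (hE : ∀ g : X, ∀ x ∈ E, g * x * g⁻¹ ∈ E) (g : X) {a b : X}
    (h : Near E a b) : Near E (g * a * g⁻¹) (g * b * g⁻¹) := by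
  obtain ⟨c, hc, h1, h2⟩ := h
  exact ⟨_, hE g c hc, h1.map (MulAut.conj g).toMonoidHom, h2.map (MulAut.conj g).toMonoidHom⟩

namespace Sys

variable [Finite X] {G₀ : Subgroup X} {E : Set X} {T : X → Set X} (S : Sys G₀ E T)
variable {z : X} (P : Pole G₀ E T z) (hN : NearPole E z)
include S P hN

/-- Two members centralised by an inner involution are near. -/
theorem near_of_inner {a b k : X} (ha : a ∈ E) (hb : b ∈ E) (hk : k ∈ G₀) (h2 : k * k = 1) (h1 : k ≠ 1)
    (hka : Commute k a) (hkb : Commute k b) : Near E a b := by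
  rcases S.inner_cases P ha hk hka h2 h1 with h | ⟨m, -, hm⟩
  · exact S.near_inT P h ha hb hka hkb
  · have := hN _ (S.conj m a ha) _ (S.conj m b hb) (hm ▸ hka.map (MulAut.conj m).toMonoidHom)
      (hm ▸ hkb.map (MulAut.conj m).toMonoidHom)
    have h' := near_conj S.conj m⁻¹ this
    simpa [mul_assoc] using h'

theorem eq_of_not_near {a b c c' : X} (ha : a ∈ E) (hb : b ∈ E) (hab : ¬ Near E a b) (hc : c ∉ G₀)
    (hc' : c' ∉ G₀) (h2 : c * c = 1) (h2' : c' * c' = 1) (hcc : Commute c c') (hca : Commute c a)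
    (hcb : Commute c b) (hca' : Commute c' a) (hcb' : Commute c' b) : c = c' := by
  by_contra hne
  refine hab (S.near_of_inner P hN ha hb (S.mul_out hc hc') ?_ (fun e => hne ?_) (hca.mul_left hca')
    (hcb.mul_left hcb'))
  · calc c * c' * (c * c') = c * (c' * c) * c' := by group
      _ = 1 := by rw [← hcc.eq, ← mul_assoc, h2, one_mul, h2']
  · rw [mul_eq_one_iff_eq_inv, inv_eq_of_mul_eq_one_right h2'] at e
    exact e

theorem dihedral {x a e : X} (hx : x ∈ E) (ha : a ∈ E) (he : e ∈ E) (hxa : Commute x a) (hne : a ≠ x)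
    (hxe : ¬ Near E x e) :
    (∃ k ∈ G₀, k * k = 1 ∧ k ≠ 1 ∧ Commute k (x * a) ∧ Commute k e) ∨ Bad G₀ E x a e := by
  classical
  have hs : x * a ∈ T x := S.nb_mem P hx ha hxa hne
  set s := x * a with hsdef
  have hs2 := S.sq_T hx hs
  have he2 := S.sq e he
  have hr : e * s ∉ G₀ := fun h => S.out e he ((Subgroup.mul_mem_cancel_right _ (S.Tmem_G hx hs)).1 h)
  set r := e * s with hrdef
  have hei : e * r * e⁻¹ = r⁻¹ := by
    rw [hrdef, mul_inv_rev, inv_eq_of_mul_eq_one_right he2, inv_eq_of_mul_eq_one_right hs2,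
      ← mul_assoc e e s, he2, one_mul]
  have hrp : ∀ i : ℕ, r ^ i ∈ G₀ ↔ Even i := fun i => by
    obtain ⟨j, rfl | rfl⟩ := Nat.even_or_odd' i
    · simp [pow_mul, Subgroup.pow_mem _ (Subgroup.sq_mem_of_index_two S.idx r)]
    · rw [pow_succ', pow_mul, Subgroup.mul_mem_cancel_right _
        (Subgroup.pow_mem _ (Subgroup.sq_mem_of_index_two S.idx r) j)]
      simp [hr]
  obtain ⟨m, hm⟩ : Even (orderOf r) := (hrp _).1 (by rw [pow_orderOf_eq_one]; exact one_mem _)
  have hpos := orderOf_pos r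
  have hc2 : r ^ m * r ^ m = 1 := by rw [← pow_add, ← hm, pow_orderOf_eq_one]
  have hc1 : r ^ m ≠ 1 := pow_ne_one_of_lt_orderOf (by omega) (by omega)
  have hce : Commute (r ^ m) e := by
    refine (commute_iff_conj_eq.2 ?_).symm
    rw [← conj_pow, hei, inv_pow, inv_eq_of_mul_eq_one_right hc2]
  have hcy : ∀ y, Commute y s → Commute y e → Commute y (r ^ m) := fun y h1 h2 =>
    (h2.mul_right h1).pow_right m
  have hcs : Commute (r ^ m) s := by
    have e' : s = e * r := by rw [hrdef, ← mul_assoc, he2, one_mul]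
    rw [e']; exact hce.mul_right (Commute.pow_self r m)
  rcases Nat.even_or_odd' m with ⟨j, hj | hj⟩
  · exact Or.inl ⟨r ^ m, (hrp m).2 ⟨j, by omega⟩, hc2, hc1, hcs, hce⟩
  · right
    have hf : r ^ j * e * (r ^ j)⁻¹ ∈ E := S.conj _ e he
    have hc : r ^ j * e * (r ^ j)⁻¹ = r ^ m * s := by
      have h1 : e * (r ^ j)⁻¹ = r ^ j * e := by
        rw [← inv_pow, ← hei, conj_pow, inv_eq_of_mul_eq_one_right he2, ← mul_assoc, ← mul_assoc, he2, one_mul]
      rw [mul_assoc, h1, ← mul_assoc, ← pow_add, hj, pow_succ, show 2 * j = j + j by ring, mul_assoc,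
        hrdef, mul_assoc, hs2, mul_one]
    set f := r ^ m * s with hfdef
    rw [hc] at hf
    have hfs : Commute f s := hcs.mul_left (Commute.refl s)
    have hfc : f * s = r ^ m := by rw [hfdef, mul_assoc, hs2, mul_one]
    have hfx : Commute f x := S.com_inT P hx hs hf hfs
    have hsa : s ∈ T a := by
      have := S.nb_mem P ha hx hxa.symm (Ne.symm hne)
      rwa [← hxa.eq] at this
    have hfa : Commute f a := S.com_inT P ha hsa hf hfs
    refine ⟨f, hf, fun e' => hxe ?_, fun e' => hxe ?_, hfx, hfa, ?_, ?_, ?_, fun y h1 h2 => hfc ▸ hcy y h1 h2⟩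
    · refine ⟨a, ha, hxa, ?_⟩
      rwa [← hfc, e', hsdef, ← mul_assoc, S.sq x hx, one_mul] at hce
    · refine ⟨x, hx, Commute.refl x, ?_⟩
      rwa [← hfc, e', hsdef, hxa.eq, ← mul_assoc, S.sq a ha, one_mul] at hce
    · rw [hfc, hrp, Nat.not_even_iff_odd]; exact ⟨j, hj⟩
    · rw [hfc, hc2]
    · rw [hfc]; exact hce

theorem good_swap {x a e k : X} (hx : x ∈ E) (ha : a ∈ E) (he : e ∈ E) (hxa : Commute x a) (hne : a ≠ x)
    (hxe : ¬ Near E x e) (hk : k ∈ G₀) (h2 : k * k = 1) (h1 : k ≠ 1) (hks : Commute k (x * a))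
    (hke : Commute k e) : k * a * k⁻¹ = x := by
  have hs := S.nb_mem P hx ha hxa hne
  rcases S.pair_cases hx hs (S.conj k x hx) (by
      have := S.Tconj k x hx _ hs
      rwa [commute_iff_conj_eq.1 hks] at this) with e' | e'
  · exact absurd (S.near_of_inner P hN hx he hk h2 h1 (commute_iff_conj_eq.2 e') hke) hxe
  · rw [← mul_assoc, S.sq x hx, one_mul] at e'
    rw [← e', show k * (k * x * k⁻¹) * k⁻¹ = (k * k) * x * (k * k)⁻¹ by group, h2]; group

theorem bad_unique {x a a' f e : X} (hx : x ∈ E) (ha : a ∈ E) (ha' : a' ∈ E) (he : e ∈ E)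
    (hxe : ¬ Near E x e) (hf : f ∈ E) (hfx : Commute f x) (hfa : Commute f a) (hxa : Commute x a)
    (hfna : f ≠ a) (hc : f * (x * a) ∉ G₀) (hc2 : f * (x * a) * (f * (x * a)) = 1)
    (hce : Commute (f * (x * a)) e) (hxa' : Commute x a') (haa' : Commute a a') (hfa' : Commute f a')
    (hne : a' ≠ a) (hnf : a' ≠ f) (hbad : Bad G₀ E x a' e) : False := by
  obtain ⟨f', hf', hfx', hfne', hcx', hca', hc', hc2', hce', hall⟩ := hbad
  have hcx : Commute (f * (x * a)) x := hfx.mul_left ((Commute.refl x).mul_left hxa.symm)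
  have hca : Commute (f * (x * a)) a' := hfa'.mul_left (hxa'.mul_left haa')
  have heq := S.eq_of_not_near P hN hx he hxe hc hc' hc2 hc2' (hall _ (hcx.mul_right hca) hce) hcx hce
    (hcx'.mul_left ((Commute.refl x).mul_left hxa'.symm)) hce'
  have hstrip : ∀ u v : X, Commute x v → u * (x * v) * x = u * v := fun u v h => by
    rw [mul_assoc u, mul_assoc x, ← h.eq, ← mul_assoc x x, S.sq x hx, one_mul]
  have hk : f' * a' = f * a := by rw [← hstrip f' a' hxa', ← heq, hstrip f a hxa]
  have h1 : f * a ∈ T a := hfa.eq ▸ S.nb_mem P ha hf hfa.symm hfna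
  have h2 : f * a ∈ T a' := by
    rw [← hk, hca'.eq]
    exact S.nb_mem P ha' hf' hca'.symm hfne'
  rcases S.pair_cases ha h1 ha' h2 with e' | e'
  · exact hne e'
  · rw [hfa.eq, ← mul_assoc, S.sq a ha, one_mul] at e'
    exact hnf e'

/-- Being near one member is closed under adjacency. -/
theorem near_step {x b e : X} (hx : x ∈ E) (hb : b ∈ E) (he : e ∈ E) (h : Near E x b) (hbe : Commute b e) :
    Near E x e := by
  by_contra hxe
  obtain ⟨a, ha, hxa, hab⟩ := h
  have hxb : ¬ Commute x b := fun h => hxe ⟨b, hb, h, hbe⟩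
  have hax : a ≠ x := fun h => hxb (h ▸ hab)
  have hae : Near E a e := ⟨b, hb, hab, hbe⟩
  have noGood : ∀ a' ∈ E, Commute x a' → a' ≠ x → Near E a' e →
      ∀ k ∈ G₀, k * k = 1 → k ≠ 1 → Commute k (x * a') → Commute k e → False := by
    intro a' ha' hxa' hne' hn k hk h2 h1 hks hke
    have := near_conj S.conj k hn
    rw [S.good_swap P hN hx ha' he hxa' hne' hxe hk h2 h1 hks hke, commute_iff_conj_eq.1 hke] at this
    exact hxe this
  rcases S.dihedral P hN hx ha he hxa hax hxe with ⟨k, hk, h2, h1, hks, hke⟩ | hbad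
  · exact noGood a ha hxa hax hae k hk h2 h1 hks hke
  obtain ⟨f, hf, hfx, hfa, hfx', hfa', hc, hc2, hce, -⟩ := hbad
  have hba : b ≠ a := fun h => hxb (h ▸ hxa)
  have hA := S.nb_mem P ha hx hxa.symm hax.symm
  have hB := S.nb_mem P ha hb hab hba
  have hF := S.nb_mem P ha hf hfa'.symm hfa
  have back : ∀ y : X, a * (a * y) = y := fun y => by rw [← mul_assoc, S.sq a ha, one_mul]
  obtain ⟨w, hw, hwA, hwF, cA, cB, cF⟩ := S.exists_common_three ha hA hB hF
    (fun h => hxb (by have := (S.comm_iff ha hA hB).2 h; rwa [back, back] at this))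
    ((S.comm_iff ha hA hF).1 (by rw [back, back]; exact hfx'.symm))
    (fun h => hfx (mul_left_cancel h))
  have ha' : a * w ∈ E := (S.pair_other ha hw).1
  have hcm : ∀ {y : X}, a * y ∈ T a → Commute (a * y) w → Commute y (a * w) := fun {y} hy h => by
    have := (S.comm_iff ha hy hw).2 h
    rwa [back] at this
  have h1 := hcm hA cA
  have h2 := hcm hB cB
  have h3 := hcm hF cF
  have hne : a * w ≠ a := fun h => S.ne_one ha hw (mul_eq_left.1 h)
  have hnx : a * w ≠ x := fun h => hwA (by rw [← h, back])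
  have hnf : a * w ≠ f := fun h => hwF (by rw [← h, back])
  have ha'e : Near E (a * w) e := ⟨b, hb, h2.symm, hbe⟩
  rcases S.dihedral P hN hx ha' he h1 hnx hxe with ⟨k, hk, hk2, hk1, hks, hke⟩ | hbad'
  · exact noGood _ ha' h1 hnx ha'e k hk hk2 hk1 hks hke
  · exact S.bad_unique P hN hx ha ha' he hxe hf hfx' hfa' hxa hfa hc hc2 hce h1
      ((Commute.refl a).mul_right (S.comm_T ha hw)) h3 hne hnf hbad'

/-- Any two members are near. -/
theorem near_all {x e : X} (hx : x ∈ E) (he : e ∈ E) : Near E x e := by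
  by_contra hxe
  have noGood : ∀ a ∈ E, Commute x a → a ≠ x →
      ∀ k ∈ G₀, k * k = 1 → k ≠ 1 → Commute k (x * a) → Commute k e → False := by
    intro a ha hxa hne k hk h2 h1 hks hke
    have hs := S.nb_mem P hx ha hxa hne
    obtain ⟨f, hf, hfs, hfk⟩ := S.exists_fixed hx hs hk h2 hks
    obtain ⟨c, hc, hfc, hce⟩ := S.near_of_inner P hN hf he hk h2 h1 hfk.symm hke
    exact hxe (S.near_step P hN hx hc he ⟨f, hf, (S.com_inT P hx hs hf hfs).symm, hfc⟩ hce)
  obtain ⟨u, hu⟩ := Set.nonempty_of_ncard_ne_zero (s := {y : ↥(Yc G₀ x) | (y : X) ∈ T x}) (by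
    rw [(S.m23 x hx).card_class]; norm_num)
  have hu' : (u : X) ∈ T x := hu
  have ha : x * (u : X) ∈ E := (S.pair_other hx hu').1
  have hxa : Commute x (x * (u : X)) := (Commute.refl x).mul_right (S.comm_T hx hu')
  have hax : x * (u : X) ≠ x := fun h => S.ne_one hx hu' (mul_eq_left.1 h)
  set a := x * (u : X)
  rcases S.dihedral P hN hx ha he hxa hax hxe with ⟨k, hk, h2, h1, hks, hke⟩ | hbad
  · exact noGood a ha hxa hax k hk h2 h1 hks hke
  obtain ⟨f, hf, hfx, hfa, hfx', hfa', hc, hc2, hce, -⟩ := hbad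
  have hA := S.nb_mem P hx ha hxa hax
  have hF := S.nb_mem P hx hf hfx'.symm hfx
  have back : ∀ y : X, x * (x * y) = y := fun y => by rw [← mul_assoc, S.sq x hx, one_mul]
  obtain ⟨w, hw, hwA, hwF, cA, cF⟩ := S.exists_common_two hx hA hF (fun h => hfa (mul_left_cancel h).symm)
    ((S.comm_iff hx hA hF).1 (by rw [back, back]; exact hfa'.symm))
  have ha' : x * w ∈ E := (S.pair_other hx hw).1
  have hxa' : Commute x (x * w) := (Commute.refl x).mul_right (S.comm_T hx hw)
  have hnx : x * w ≠ x := fun h => S.ne_one hx hw (mul_eq_left.1 h)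
  rcases S.dihedral P hN hx ha' he hxa' hnx hxe with ⟨k, hk, hk2, hk1, hks, hke⟩ | hbad'
  · exact noGood _ ha' hxa' hnx k hk hk2 hk1 hks hke
  · have h1 := (S.comm_iff hx hA hw).2 cA
    have h3 := (S.comm_iff hx hF hw).2 cF
    rw [back] at h1 h3
    exact S.bad_unique P hN hx ha ha' he hxe hf hfx' hfa' hxa hfa hc hc2 hce hxa' h1 h3
      (fun h => hwA (by rw [← h, back])) (fun h => hwF (by rw [← h, back])) hbad'

end Sys

end Cfsg.Agent.FischerAut24
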