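import Cfsg.Agent.Lib.FischerUnique24.Model
import Cfsg.Agent.Lib.Fi22Local.Fast

/-!
In a group of type M(23): a neighbour of one member of a non-commuting pair commutes with a common
neighbour of the pair other than itself.
-/

set_option autoImplicit false
set_option maxRecDepth 100000

namespace Cfsg.Agent.FischerAut24

open Cfsg.Agent.CosetCert
open Cfsg.Agent.Fischer.Factor
open Cfsg.Agent.FischerPresented
open Cfsg.Agent.Fi22Local
open Cfsg.Agent.FischerUnique23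
open Cfsg.Agent.FischerUnique24 (Is23 Far)

local notation "FT" => CosetData.Fi23A.setup

theorem om7_near : allBelow (fun p => om7Pts.any fun n =>
    Nat.beq (tappF p n.1) n.1 && !Nat.beq p n.1) 3510 = true := by decide +kernel

theorem near_model {w : Setup.G FT} (hw : w ∈ Nb Fi23.D Fi23.z) :
    ∃ y ∈ Nb Fi23.D Fi23.z ∩ Nb Fi23.D (gT 9), y ∈ Nb Fi23.D w := by
  obtain ⟨π, hπ, hgen, hker⟩ := exists_pi
  obtain ⟨k, hk, hkw⟩ : ∃ k ∈ Fi23.K, k * gT 0 * k⁻¹ = w := by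
    rcases D23_cases hw.1 with h | h | ⟨k, hk, h⟩
    · exact absurd h hw.2.1
    · exact h
    · refine absurd ?_ nine_not_commute
      have hkz := Subgroup.mem_centralizer_singleton_iff.1 (Fi23.centralizer_z.ge hk)
      have e : k * Fi23.z * k⁻¹ = Fi23.z := by rw [hkz, mul_inv_cancel_right]
      have h3 := hw.2.2
      rw [← h, ← e] at h3
      exact (Fischer.commute_conj_iff _ _ _).1 h3
  have hwK : w ∈ Fi23.K := Fi23.centralizer_z.le
    (Subgroup.mem_centralizer_singleton_iff.2 hw.2.2.symm.eq)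
  obtain ⟨p, hp, hpe⟩ := exists_trN (d := π ⟨w, hwK⟩) (by
    have e : π ⟨w, hwK⟩ = π ⟨k, hk⟩ * gn 0 * (π ⟨k, hk⟩)⁻¹ := by
      rw [← hgen 0 (by norm_num), ← map_inv, ← map_mul, ← map_mul]
      refine congrArg π (Subtype.ext ?_)
      simp [Fi23.gK_coe, hkw]
    rw [e]; exact Fi22Class.mem_D.2 ⟨_, rfl⟩)
  have h := allBelow_spec om7_near hp
  simp only [List.any_eq_true, Bool.and_eq_true, Nat.beq_eq, Bool.not_eq_true'] at h
  obtain ⟨n, hn, hcm, hne⟩ := h
  obtain ⟨i, hi, hin⟩ := List.getElem_of_mem hn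
  have hni : om7At i = n.1 := by rw [om7At, List.getD_eq_getElem _ _ hi, hin]
  obtain ⟨y, hyD, hyK1, hyp⟩ := exists_lift hgen hi
  obtain ⟨hyz, hy9⟩ := mem_C1.1 (K1_le hyK1)
  have hi3 := om7At_lt hi
  rw [← hni, (tappF_eq hp hi3).1, tapp_self_iff hp hi3, hpe, ← hyp] at hcm
  have hyw : π y ≠ π ⟨w, hwK⟩ := fun e => Nat.ne_of_beq_eq_false hne
    (hni ▸ trN_inj hp hi3 (by rw [hpe, ← e, hyp]))
  have hwy : (y : Setup.G FT) ≠ w := fun e => hyw (congrArg π (Subtype.ext e))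
  have hc : Commute w (y : Setup.G FT) := by
    by_contra hn'
    have h3 : (⟨w, hwK⟩ * y) ^ 3 = 1 := Subtype.ext (by
      simpa using Fischer.TSet.cube D23_group.1 hw.1 hyD hn')
    have h4 := congrArg π h3
    have hs : ∀ u : Fi23.K, (u : Setup.G FT) ∈ Fi23.D → π u * π u = 1 := fun u hu => by
      rw [← map_mul, ← map_one π]
      exact congrArg π (Subtype.ext (Fischer.TSet.sq D23_group.1 hu))
    rw [map_pow, map_mul, map_one, pow_succ, hcm.mul_pow, pow_two, pow_two, hs _ hw.1, hs y hyD,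
      one_mul, one_mul] at h4
    refine hyw (mul_left_cancel (a := π ⟨w, hwK⟩) ?_)
    rw [h4, hs _ hw.1]
  refine ⟨y, ⟨⟨hyD, fun e => ?_, hyz.symm⟩, ⟨hyD, fun e => ?_, hy9.symm⟩⟩, hyD, hwy, hc⟩
  · exact nine_not_commute (e ▸ hy9)
  · exact nine_not_commute (e ▸ hyz.symm)

universe u

variable {X : Type u} [Group X] [Finite X] {D1 : Set X}

/-- The statement in a group of type M(23). -/
theorem exists_com_nb (h : Is23 D1) {a b c : X} (ha : a ∈ D1) (hb : b ∈ Far D1 a) (hc : c ∈ Nb D1 a) :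
    ∃ u ∈ Nb D1 a ∩ Nb D1 b, u ∈ Nb D1 c := by
  obtain ⟨T, hTD, rfl, rfl⟩ := exists_frame_noncomm h.group h.prim h.type ha hb.1 hb.2
  have hnb : ∀ {x y}, T x ∈ Nb D1 (T y) ↔ x ∈ Nb Fi23.D y := fun {x y} => by
    constructor
    · rintro ⟨h1, h2, h3⟩
      refine ⟨?_, fun e => h2 (congrArg T e), by simpa using h3.map T.symm.toMonoidHom⟩
      rw [← hTD] at h1
      exact T.injective.mem_set_image.1 h1
    · rintro ⟨h1, h2, h3⟩
      exact ⟨hTD ▸ ⟨x, h1, rfl⟩, fun e => h2 (T.injective e), h3.map T.toMonoidHom⟩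
  obtain ⟨w, rfl⟩ := T.surjective c
  obtain ⟨y, ⟨h1, h2⟩, h3⟩ := near_model (hnb.1 hc)
  exact ⟨T y, ⟨hnb.2 h1, hnb.2 h2⟩, hnb.2 h3⟩

end Cfsg.Agent.FischerAut24
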