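import Cfsg.Agent.Lib.FischerAut24.Basic
import Cfsg.Agent.Lib.FischerAut24.M23Nb

/-!
Products of transpositions in the inner centralisers, the neighbours of a member of the class, and the
members centralised by an inner involution.
-/

set_option autoImplicit false
set_option linter.unusedSectionVars false
set_option maxRecDepth 100000

namespace Cfsg.Agent.FischerAut24

open Cfsg.Agent.Fischer.Factor
open Cfsg.Agent.FischerUnique24 (Is23 Far)
open Cfsg.Agent.Fi22Local (GG)


universe u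

variable {X : Type u} [Group X]

/-- A product of two commuting transpositions. -/
def Two (T : X → Set X) (x g : X) : Prop :=
  ∃ a ∈ T x, ∃ b ∈ T x, a ≠ b ∧ Commute a b ∧ g = a * b

/-- A product of three commuting transpositions. -/
def Three (T : X → Set X) (x g : X) : Prop :=
  ∃ a ∈ T x, ∃ b ∈ T x, ∃ c ∈ T x, a ≠ b ∧ a ≠ c ∧ b ≠ c ∧ Commute a b ∧ Commute a c ∧ Commute b c ∧
    g = a * b * c

/-- An inner involution outside the classes of transpositions. -/
structure Pole (G₀ : Subgroup X) (E : Set X) (T : X → Set X) (z : X) : Prop where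
  mem : z ∈ G₀
  sq : z * z = 1
  ne : z ≠ 1
  notT : ¬ InT E T z
  exists_fix : ∃ x ∈ E, Commute z x

namespace Sys

variable [Finite X] {G₀ : Subgroup X} {E : Set X} {T : X → Set X} (S : Sys G₀ E T)
include S

/-- A product of two commuting transpositions is a transposition at a neighbour. -/
theorem two_mem {x a b : X} (hx : x ∈ E) (ha : a ∈ T x) (hb : b ∈ T x) (hab : a ≠ b)
    (hc : Commute a b) : a * b ∈ T (x * a) := by
  obtain ⟨hy, hay⟩ := S.pair_other hx ha
  obtain ⟨F⟩ := S.exists_frame hx ha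
  obtain ⟨F'⟩ := S.exists_frame hy hay
  have hK := S.Kx_other hx ha
  let r : ↥(Kx G₀ x a) →* ↥(Kx G₀ (x * a) a) := (MulEquiv.subgroupCongr hK.symm).toMonoidHom
  have hle : F.π.ker ≤ (F'.π.comp r).ker := fun g hg => by
    rw [MonoidHom.mem_ker, MonoidHom.comp_apply, F'.ker]
    exact (F.ker g).1 hg
  let φ : GG →* GG := F.π.liftOfSurjective F.surj ⟨F'.π.comp r, hle⟩
  have hφ : ∀ g, φ (F.π g) = F'.π (r g) :=
    MonoidHom.liftOfRightInverse_comp_apply _ _ (Function.rightInverse_surjInv F.surj) ⟨_, hle⟩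
  have hbi : Function.Bijective φ := by
    haveI := FischerPresented.Fi22.order_facts.1
    refine Finite.surjective_iff_bijective.1 fun q => ?_
    obtain ⟨g, rfl⟩ := F'.surj q
    exact ⟨F.π ((MulEquiv.subgroupCongr hK) g), hφ _⟩
  set b' : ↥(Kx G₀ x a) := ⟨b, mem_Kx.2 ⟨S.mem x hx b hb, hc.symm⟩⟩
  have hD : F'.π (r b') ∈ FischerPresented.Fi22Class.D := by
    rw [← hφ]
    exact FischerPresented.Fi22Outer.aut_D (MulEquiv.ofBijective φ hbi) (F.mem b' hb hab.symm)
  obtain ⟨y, hy1, hy2, hye⟩ := F'.lift _ hD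
  have h1 : F'.π ((r b')⁻¹ * y) = 1 := by rw [map_mul, map_inv, hye, inv_mul_cancel]
  rcases (F'.ker _).1 h1 with e | e <;>
    rw [Subgroup.coe_mul, Subgroup.coe_inv, inv_mul_eq_iff_eq_mul] at e
  · exfalso
    have hb' : b ∈ T (x * a) := by rw [e, mul_one] at hy1; exact hy1
    rcases S.pair_cases hx hb hy hb' with e' | e'
    · exact S.ne_one hx ha (mul_eq_left.1 e')
    · exact hab (mul_left_cancel e')
  · rw [hc.eq]
    exact e ▸ hy1

theorem two_mem' {x a b : X} (hx : x ∈ E) (ha : a ∈ T x) (hb : b ∈ T x) (hab : a ≠ b)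
    (hc : Commute a b) : a * b ∈ T (x * b) := by
  rw [hc.eq]; exact S.two_mem hx hb ha hab.symm hc.symm

theorem two_inT {x g : X} (hx : x ∈ E) (h : Two T x g) : InT E T g := by
  obtain ⟨a, ha, b, hb, hab, hc, rfl⟩ := h
  exact ⟨x * a, (S.pair_other hx ha).1, S.two_mem hx ha hb hab hc⟩

theorem inT_conj (g : X) {k : X} (hk : InT E T k) : InT E T (g * k * g⁻¹) := by
  obtain ⟨x, hx, hkx⟩ := hk
  exact ⟨_, S.conj g x hx, S.Tconj g x hx k hkx⟩

theorem class_odd {x : X} (hx : x ∈ E) : ¬ 2 ∣ {y : ↥(Yc G₀ x) | (y : X) ∈ T x}.ncard := by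
  rw [(S.m23 x hx).card_class]; norm_num

/-- The involutions of an inner centraliser. -/
theorem classify {x g : X} (hx : x ∈ E) (hg : g ∈ G₀) (hgx : Commute g x) (h2 : g * g = 1) (h1 : g ≠ 1) :
    g ∈ T x ∨ Two T x g ∨ Three T x g := by
  have h := S.m23 x hx
  obtain ⟨-, d, hd, ⟨L⟩⟩ := FischerUnique23.Inv.exists_loc h.group h.prim h.type
  set g' : ↥(Yc G₀ x) := ⟨g, mem_Yc.2 ⟨hg, hgx⟩⟩
  have ho : orderOf g' = 2 := orderOf_eq_prime (by rw [pow_two]; exact Subtype.ext h2)
    fun e => h1 (congrArg Subtype.val e)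
  obtain ⟨m, hm1, hm3, l, hnd, hlen, hD, hcm, hprod⟩ := L.exists_fac h.group h.prim hd (S.class_odd hx) g' ho
  obtain rfl | rfl | rfl : m = 1 ∨ m = 2 ∨ m = 3 := by omega
  · obtain ⟨a, rfl⟩ := List.length_eq_one_iff.1 hlen
    exact Or.inl (by rw [show g = (a : X) from congrArg Subtype.val (hprod.symm.trans List.prod_singleton)]
                     exact hD a (by simp))
  · obtain ⟨a, b, rfl⟩ := List.length_eq_two.1 hlen
    refine Or.inr (Or.inl ⟨a, hD a (by simp), b, hD b (by simp), fun e => ?_,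
      (hcm a (by simp) b (by simp)).map (Yc G₀ x).subtype, ?_⟩)
    · simp [Subtype.ext e] at hnd
    · simpa [Subtype.ext_iff, g'] using hprod.symm
  · obtain ⟨a, b, c, rfl⟩ := List.length_eq_three.1 hlen
    simp only [List.nodup_cons, List.mem_cons, List.not_mem_nil, or_false, not_or] at hnd
    refine Or.inr (Or.inr ⟨a, hD a (by simp), b, hD b (by simp), c, hD c (by simp),
      fun e => hnd.1.1 (Subtype.ext e), fun e => hnd.1.2 (Subtype.ext e), fun e => hnd.2.1 (Subtype.ext e),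
      (hcm a (by simp) b (by simp)).map (Yc G₀ x).subtype,
      (hcm a (by simp) c (by simp)).map (Yc G₀ x).subtype,
      (hcm b (by simp) c (by simp)).map (Yc G₀ x).subtype, ?_⟩)
    simpa [Subtype.ext_iff, g', mul_assoc] using hprod.symm

theorem three_conj {x g g' : X} (hx : x ∈ E) (h : Three T x g) (h' : Three T x g') :
    ∃ m ∈ Yc G₀ x, m * g * m⁻¹ = g' := by
  have hI := S.m23 x hx
  obtain ⟨-, d, hd, ⟨L⟩⟩ := FischerUnique23.Inv.exists_loc hI.group hI.prim hI.type
  have mk : ∀ {y}, Three T x y → ∃ y' : ↥(Yc G₀ x), (y' : X) = y ∧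
      FischerUnique23.Inv.Fac {u : ↥(Yc G₀ x) | (u : X) ∈ T x} 3 y' := by
    rintro _ ⟨a, ha, b, hb, c, hc, hab, hac, hbc, cab, cac, cbc, rfl⟩
    let A : ↥(Yc G₀ x) := ⟨a, S.mem x hx a ha⟩
    let B : ↥(Yc G₀ x) := ⟨b, S.mem x hx b hb⟩
    let C : ↥(Yc G₀ x) := ⟨c, S.mem x hx c hc⟩
    refine ⟨A * B * C, rfl, [A, B, C], ?_, rfl, ?_, ?_, by simp [mul_assoc]⟩
    · simp [A, B, C, hab, hac, hbc]
    · simp [A, B, C, ha, hb, hc]
    · have e : ∀ {u v : ↥(Yc G₀ x)}, Commute (u : X) v → Commute u v := fun h => Subtype.ext h.eq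
      intro u hu v hv
      simp only [List.mem_cons, List.not_mem_nil, or_false] at hu hv
      rcases hu with rfl | rfl | rfl <;> rcases hv with rfl | rfl | rfl <;> apply e
      exacts [Commute.refl _, cab, cac, cab.symm, Commute.refl _, cbc, cac.symm, cbc.symm, Commute.refl _]
  obtain ⟨u, hu, fu⟩ := mk h
  obtain ⟨v, hv, fv⟩ := mk h'
  obtain ⟨m, hm⟩ := isConj_iff.1 (L.classes_conj hI.group hI.prim hd (m := 3) (by norm_num) le_rfl fu fv)
  exact ⟨m, m.2, by rw [← hu, ← hv, ← hm]; rfl⟩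

variable {z : X} (P : Pole G₀ E T z)
include P

/-- The pole is a product of three at each member it commutes with. -/
theorem pole_three {x : X} (hx : x ∈ E) (hc : Commute z x) : Three T x z := by
  rcases S.classify hx P.mem hc P.sq P.ne with h | h | h
  · exact absurd ⟨x, hx, h⟩ P.notT
  · exact absurd (S.two_inT hx h) P.notT
  · exact h

theorem three_pole {x g : X} (hx : x ∈ E) (h : Three T x g) : ∃ m ∈ G₀, m * g * m⁻¹ = z := by
  obtain ⟨d, hd, hzd⟩ := P.exists_fix
  obtain ⟨n, hn, rfl⟩ := S.trans x hx d hd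
  have h' : Three T (n * x * n⁻¹) (n * g * n⁻¹) := by
    obtain ⟨a, ha, b, hb, c, hc, hab, hac, hbc, cab, cac, cbc, rfl⟩ := h
    exact ⟨_, S.Tconj n x hx a ha, _, S.Tconj n x hx b hb, _, S.Tconj n x hx c hc,
      fun e => hab (mul_left_cancel (mul_right_cancel e)), fun e => hac (mul_left_cancel (mul_right_cancel e)),
      fun e => hbc (mul_left_cancel (mul_right_cancel e)), cab.map (MulAut.conj n).toMonoidHom,
      cac.map (MulAut.conj n).toMonoidHom, cbc.map (MulAut.conj n).toMonoidHom, by group⟩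
  obtain ⟨m, hm, e⟩ := S.three_conj hd h' (S.pole_three P hd hzd)
  refine ⟨m * n, mul_mem (mem_Yc.1 hm).1 hn, ?_⟩
  rw [← e]; group

theorem three_not {x g : X} (hx : x ∈ E) (h : Three T x g) : ¬ InT E T g := fun hg => by
  obtain ⟨m, -, e⟩ := S.three_pole P hx h
  exact P.notT (e ▸ S.inT_conj m hg)

/-- An inner involution centralising a member is a transposition or a conjugate of the pole. -/
theorem inner_cases {x g : X} (hx : x ∈ E) (hg : g ∈ G₀) (hgx : Commute g x) (h2 : g * g = 1) (h1 : g ≠ 1) :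
    InT E T g ∨ ∃ m ∈ G₀, m * g * m⁻¹ = z := by
  rcases S.classify hx hg hgx h2 h1 with h | h | h
  · exact Or.inl ⟨x, hx, h⟩
  · exact Or.inl (S.two_inT hx h)
  · exact Or.inr (S.three_pole P hx h)

theorem no_two {x e : X} (hx : x ∈ E) (he : e ∈ E) (hc : Commute x e) (h : Two T x (x * e)) : False := by
  obtain ⟨a, ha, b, hb, hab, hcab, hi⟩ := h
  have hxa := (S.pair_other hx ha).1
  have ha2 := S.sq_T hx ha
  have hb2 := S.sq_T hx hb
  have hiT := S.two_mem hx ha hb hab hcab
  have hxab : x * a * (a * b) = x * b := by rw [mul_assoc, ← mul_assoc a a, ha2, one_mul]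
  have hne : a * b ≠ 1 := fun h => hab (by
    rwa [mul_eq_one_iff_eq_inv, inv_eq_of_mul_eq_one_right hb2] at h)
  have key : ∀ p, p = a ∨ p = b → e ≠ x * p := fun p hp h => by
    rw [h, ← mul_assoc, S.sq x hx, one_mul] at hi
    rcases hp with rfl | rfl
    · exact S.ne_one hx hb (left_eq_mul.1 hi)
    · exact S.ne_one hx ha (right_eq_mul.1 hi)
  have hex : e ≠ x := fun h => hne (by rw [← hi, h, S.sq x hx])
  have hpe : ∀ p, e * p ∈ E → x * e ∈ T (e * p) → p = b ∨ p = a := fun p h2 h1 => by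
    have hp : p = e * (e * p) := by rw [← mul_assoc, S.sq e he, one_mul]
    rcases S.pair_cases hxa hiT h2 (hi ▸ h1) with e' | e' <;> rw [e'] at hp
    · left
      rw [hp, ← mul_assoc, ← hc.eq, hi, hcab.eq, mul_assoc, ha2, mul_one]
    · right
      rw [hp, hxab, ← mul_assoc, ← hc.eq, hi, mul_assoc, hb2, mul_one]
  have hsq : x * e * (x * e) = 1 := by
    rw [hi]
    calc a * b * (a * b) = a * (b * a) * b := by group
      _ = 1 := by rw [← hcab.eq, ← mul_assoc, ha2, one_mul, hb2]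
  rcases S.classify he (S.mul_out (S.out x hx) (S.out e he)) (hc.mul_left (Commute.refl e)) hsq
    (hi ▸ hne) with h1 | h1 | h1
  · rcases S.pair_cases hxa hiT he (hi ▸ h1) with e' | e'
    · exact key a (Or.inl rfl) e'
    · exact key b (Or.inr rfl) (e'.trans hxab)
  · obtain ⟨p, hp, q, hq, hpq, hcpq, hiq⟩ := h1
    rcases hpe p (S.pair_other he hp).1 (hiq ▸ S.two_mem he hp hq hpq hcpq) with rfl | rfl
    · rcases S.pair_cases hx hb he hp with e' | e'
      exacts [hex e', key p (Or.inr rfl) e']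
    · rcases S.pair_cases hx ha he hp with e' | e'
      exacts [hex e', key p (Or.inl rfl) e']
  · exact S.three_not P he h1 ⟨_, hxa, hi ▸ hiT⟩

/-- The neighbours of a member are its products with the transpositions of its inner centraliser. -/
theorem nb_mem {x e : X} (hx : x ∈ E) (he : e ∈ E) (hc : Commute x e) (hne : e ≠ x) : x * e ∈ T x := by
  have hsq : x * e * (x * e) = 1 := by
    calc x * e * (x * e) = x * (e * x) * e := by group
      _ = 1 := by rw [← hc.eq, ← mul_assoc, S.sq x hx, one_mul, S.sq e he]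
  have h1 : x * e ≠ 1 := fun h => hne (by rw [mul_eq_one_iff_inv_eq, S.inv_eq hx] at h; exact h.symm)
  have hg : x * e ∈ G₀ := S.mul_out (S.out x hx) (S.out e he)
  rcases S.classify hx hg ((Commute.refl x).mul_left hc.symm) hsq h1 with h | h | h
  · exact h
  · exact (S.no_two P hx he hc h).elim
  · exfalso
    obtain ⟨a, ha, b, hb, c, hc', hab, hac, hbc, cab, cac, cbc, hi⟩ := h
    have hy := (S.pair_other hx ha).1
    have hxa := S.comm_T hx ha
    have hea : Commute e a := by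
      have : e = x * (a * b * c) := by rw [← hi, ← mul_assoc, S.sq x hx, one_mul]
      rw [this]
      exact hxa.mul_left (((Commute.refl a).mul_left cab.symm).mul_left cac.symm)
    have hye : x * a * e = b * c := by
      rw [hxa.eq, mul_assoc, hi, mul_assoc a b, ← mul_assoc a a, S.sq_T hx ha, one_mul]
    have hcy : Commute (x * a) e := hc.mul_left hea.symm
    have hT : InT E T (x * a * e) := hye ▸ ⟨_, (S.pair_other hx hb).1, S.two_mem hx hb hc' hbc cbc⟩
    have hne' : x * a * e ≠ 1 := fun h => hbc (by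
      rw [hye, mul_eq_one_iff_eq_inv, inv_eq_of_mul_eq_one_right (S.sq_T hx hc')] at h; exact h)
    rcases S.classify hy (S.mul_out (S.out _ hy) (S.out e he)) ((Commute.refl _).mul_left hcy.symm) (by
        rw [hye]; calc b * c * (b * c) = b * (c * b) * c := by group
          _ = 1 := by rw [← cbc.eq, ← mul_assoc, S.sq_T hx hb, one_mul, S.sq_T hx hc']) hne' with h | h | h
    · rcases S.pair_cases (S.pair_other hx hb).1 (S.two_mem hx hb hc' hbc cbc) hy (hye ▸ h) with e' | e'
      · exact hab (mul_left_cancel e')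
      · rw [mul_assoc x b, ← mul_assoc b b, S.sq_T hx hb, one_mul] at e'
        exact hac (mul_left_cancel e')
    · exact S.no_two P hy he hcy h
    · exact S.three_not P hy h hT

/-- A member centralised by a transposition commutes with its pair. -/
theorem com_inT {x k f : X} (hx : x ∈ E) (hk : k ∈ T x) (hf : f ∈ E) (hc : Commute f k) : Commute f x := by
  have hxk := S.comm_T hx hk
  rcases S.classify hf (S.Tmem_G hx hk) hc.symm (S.sq_T hx hk) (S.ne_one hx hk) with h | h | h
  · rcases S.pair_cases hx hk hf h with e | e <;> rw [e]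
    exact (Commute.refl x).mul_left hxk.symm
  · obtain ⟨a, ha, b, hb, hab, hcab, rfl⟩ := h
    have hfa := S.comm_T hf ha
    rcases S.pair_cases hx hk (S.pair_other hf ha).1 (S.two_mem hf ha hb hab hcab) with e | e
    · exact e ▸ (Commute.refl f).mul_right hfa
    · have hx' : x = f * a * (a * b) := by
        rw [e, mul_assoc, show a * b * (a * b) = 1 from S.sq_T hx hk, mul_one]
      rw [hx']
      exact ((Commute.refl f).mul_right hfa).mul_right hc
  · exact absurd ⟨x, hx, hk⟩ (S.three_not P hf h)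

/-- Two members centralised by one transposition are near. -/
theorem near_inT {k a b : X} (hk : InT E T k) (ha : a ∈ E) (hb : b ∈ E) (hka : Commute k a)
    (hkb : Commute k b) : Near E a b := by
  obtain ⟨x, hx, hkx⟩ := hk
  exact ⟨x, hx, S.com_inT P hx hkx ha hka.symm, (S.com_inT P hx hkx hb hkb.symm).symm⟩

omit P

/-- An inner involution centralising a transposition fixes a member centralised by it. -/
theorem exists_fixed {x s k : X} (hx : x ∈ E) (hs : s ∈ T x) (hk : k ∈ G₀) (h2 : k * k = 1)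
    (hks : Commute k s) : ∃ f ∈ E, Commute f s ∧ Commute f k := by
  by_cases hkx : Commute k x
  · exact ⟨x, hx, S.comm_T hx hs, hkx.symm⟩
  set C := G₀ ⊓ Subgroup.centralizer ({s} : Set X)
  have hi : ((Kx G₀ x s).subgroupOf C).index = 2 := S.half x hx s hs
  have hKC : Kx G₀ x s ≤ C := fun g hg =>
    ⟨(mem_Yc.1 (mem_Kx.1 hg).1).1, mem_cent.2 (mem_Kx.1 hg).2⟩
  have hkK : ∀ g ∈ Kx G₀ x s, k * g * k⁻¹ ∈ Kx G₀ x s := fun g hg =>
    (Subgroup.normal_of_index_eq_two hi).conj_mem ⟨g, hKC hg⟩ hg ⟨k, hk, mem_cent.2 hks⟩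
  obtain ⟨F⟩ := S.exists_frame hx hs
  let c : ↥(Kx G₀ x s) →* ↥(Kx G₀ x s) :=
    MonoidHom.mk' (fun g => ⟨k * g * k⁻¹, hkK g g.2⟩) fun a b => Subtype.ext (by simp [mul_assoc])
  have hcc : ∀ g, c (c g) = g := fun g => Subtype.ext (by
    show k * (k * (g : X) * k⁻¹) * k⁻¹ = g
    rw [show k * (k * (g : X) * k⁻¹) * k⁻¹ = (k * k) * g * (k * k)⁻¹ by group, h2]; group)
  have hle : F.π.ker ≤ (F.π.comp c).ker := fun g hg => by
    rw [MonoidHom.mem_ker, MonoidHom.comp_apply, F.ker]
    refine ((F.ker g).1 hg).imp (fun e => ?_) (fun e => ?_) <;> show k * (g : X) * k⁻¹ = _ <;> rw [e]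
    · group
    · exact commute_iff_conj_eq.1 hks
  let φ : GG →* GG := F.π.liftOfSurjective F.surj ⟨F.π.comp c, hle⟩
  have hφ : ∀ g, φ (F.π g) = F.π (c g) :=
    MonoidHom.liftOfRightInverse_comp_apply _ _ (Function.rightInverse_surjInv F.surj) ⟨_, hle⟩
  have hinv : ∀ q, φ (φ q) = q := fun q => by
    obtain ⟨g, rfl⟩ := F.surj q
    rw [hφ, hφ, hcc]
  let ψ : MulAut GG := MulEquiv.ofBijective φ (Function.Involutive.bijective hinv)
  obtain ⟨d, hd, hfix⟩ : ∃ d ∈ FischerPresented.Fi22Class.D, φ d = d := by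
    by_cases h : ψ = 1
    · exact ⟨_, FischerPresented.Fi22Class.mem_D.2 ⟨1, rfl⟩, DFunLike.congr_fun h _⟩
    · exact FischerPresented.Fi22Outer.fixes_some ψ
        (orderOf_eq_prime (by rw [pow_two]; exact MulEquiv.ext hinv) h)
  obtain ⟨g, hg, hgs, rfl⟩ := F.lift d hd
  have hgc : Commute (g : X) s := (mem_Kx.1 g.2).2
  rw [hφ] at hfix
  have hkx' : k * x * k⁻¹ = x * s :=
    (S.pair_cases hx hs (S.conj k x hx) (by
      have := S.Tconj k x hx s hs
      rwa [commute_iff_conj_eq.1 hks] at this)).resolve_left fun e => hkx (commute_iff_conj_eq.2 e)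
  have h1 : F.π (g⁻¹ * c g) = 1 := by rw [map_mul, map_inv, hfix, inv_mul_cancel]
  rcases (F.ker _).1 h1 with e | e <;>
    rw [Subgroup.coe_mul, Subgroup.coe_inv, inv_mul_eq_iff_eq_mul] at e <;>
    change k * (g : X) * k⁻¹ = _ at e
  · exfalso
    rw [mul_one] at e
    rcases S.pair_cases hx hg (S.conj k x hx) (by
        have := S.Tconj k x hx _ hg
        rwa [e] at this) with e' | e'
    · exact hkx (commute_iff_conj_eq.2 e')
    · exact hgs (mul_left_cancel (e'.symm.trans hkx'))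
  · refine ⟨x * g, (S.pair_other hx hg).1, (S.comm_T hx hs).mul_left hgc, (commute_iff_conj_eq.2 ?_).symm⟩
    rw [show k * (x * (g : X)) * k⁻¹ = k * x * k⁻¹ * (k * g * k⁻¹) by group, hkx', e, hgc.eq,
      mul_assoc x s, ← mul_assoc s s, S.sq_T hx hs, one_mul]

/-- Commutation of two neighbours. -/
theorem comm_iff {x a b : X} (hx : x ∈ E) (ha : a ∈ T x) (hb : b ∈ T x) :
    Commute (x * a) (x * b) ↔ Commute a b := by
  have hxa := S.comm_T hx ha
  have hxb := S.comm_T hx hb
  constructor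
  · intro h
    have h1 : Commute x (x * b) := (Commute.refl x).mul_right hxb
    have h2 : Commute x (x * a) := (Commute.refl x).mul_right hxa
    have e : ∀ y : X, y = x * (x * y) := fun y => by rw [← mul_assoc, S.sq x hx, one_mul]
    rw [e a, e b]
    exact ((Commute.refl x).mul_left h2.symm).mul_right (h1.mul_left h)
  · intro h
    exact (((Commute.refl x).mul_left hxa.symm).mul_right (hxb.mul_left h))

theorem exists_common_two {x a b : X} (hx : x ∈ E) (ha : a ∈ T x) (hb : b ∈ T x) (hab : a ≠ b)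
    (hc : Commute a b) : ∃ c ∈ T x, c ≠ a ∧ c ≠ b ∧ Commute a c ∧ Commute b c := by
  have h := S.m23 x hx
  set A : ↥(Yc G₀ x) := ⟨a, S.mem x hx a ha⟩
  set B : ↥(Yc G₀ x) := ⟨b, S.mem x hx b hb⟩
  obtain ⟨C, ⟨hC, h1, h2⟩, -, h3, h4⟩ := Set.nonempty_of_ncard_ne_zero (s := Nb {y : ↥(Yc G₀ x) | (y : X) ∈ T x} A ∩
      Nb {y : ↥(Yc G₀ x) | (y : X) ∈ T x} B) (by
    rw [h.card_pair (u := A) ha (v := B) ⟨hb, fun e => hab (congrArg Subtype.val e).symm, Subtype.ext hc.eq⟩]
    norm_num)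
  exact ⟨C, hC, fun e => h1 (Subtype.ext e), fun e => h3 (Subtype.ext e), h2.map (Yc G₀ x).subtype,
    h4.map (Yc G₀ x).subtype⟩

theorem exists_common_three {x a b c : X} (hx : x ∈ E) (ha : a ∈ T x) (hb : b ∈ T x) (hc : c ∈ T x)
    (hab : ¬ Commute a b) (hac : Commute a c) (hne : c ≠ a) :
    ∃ w ∈ T x, w ≠ a ∧ w ≠ c ∧ Commute a w ∧ Commute b w ∧ Commute c w := by
  set A : ↥(Yc G₀ x) := ⟨a, S.mem x hx a ha⟩
  set B : ↥(Yc G₀ x) := ⟨b, S.mem x hx b hb⟩
  set C : ↥(Yc G₀ x) := ⟨c, S.mem x hx c hc⟩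
  obtain ⟨W, ⟨⟨hW, h1, h2⟩, -, -, h3⟩, -, h4, h5⟩ := exists_com_nb (S.m23 x hx) (a := A) (b := B) (c := C) ha
    ⟨hb, fun h => hab (h.map (Yc G₀ x).subtype)⟩
    ⟨hc, fun e => hne (congrArg Subtype.val e), Subtype.ext hac.eq⟩
  exact ⟨W, hW, fun e => h1 (Subtype.ext e), fun e => h4 (Subtype.ext e), h2.map (Yc G₀ x).subtype,
    h3.map (Yc G₀ x).subtype, h5.map (Yc G₀ x).subtype⟩

end Sys

end Cfsg.Agent.FischerAut24
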