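import Cfsg.Agent.Lib.FischerAut24.Center
import Cfsg.Agent.Lib.Components.Local
import Cfsg.Agent.Lib.Qd.Basic

/-!
Group-theoretic glue for an outer extension of a group of large Fischer type: the generalised Fitting subgroup of an
extension of index two, transport of the centraliser setting, and the simple subgroup of index two.
-/

set_option autoImplicit false
set_option linter.unusedSectionVars false

namespace Cfsg.Agent.FischerAut24

open scoped commutatorElement

universe u v

theorem pCore_map_le {A B : Type*} [Group A] [Group B] [Finite A] [Finite B] {p : ℕ} (j : A →* B)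
    (hj : Function.Injective j) : (Cfsg.pCore p B).comap j ≤ Cfsg.pCore p A := by
  haveI hn : (Cfsg.pCore p B).Normal := FittingCores.pCore_normal p
  exact PBasic.le_pCore inferInstance ((PBasic.pCore_isPGroup p B).comap_of_injective j hj)

/-- The generalised Fitting subgroup of an extension of index two, when the extension moves the quotient. -/
theorem fstar_of_index_two {A : Type u} {B : Type v} [Group A] [Group B] [Finite A] [Finite B] (j : A →* B)
    (hj : Function.Injective j) (hidx : j.range.index = 2) {R : Subgroup A}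
    (hF : Cfsg.generalizedFittingSubgroup A = R) (hR : IsPGroup 2 ↥R)
    (hout : ∀ x : B, x ∉ j.range → ¬ ∀ a : A, ⁅x, j a⁆ ∈ R.map j) :
    Cfsg.generalizedFittingSubgroup B = R.map j := by
  haveI : Fact (Nat.Prime 2) := ⟨Nat.prime_two⟩
  haveI hjn : j.range.Normal := Subgroup.normal_of_index_eq_two hidx
  have hconj : ∀ (x : B) (a : A), x * j a * x⁻¹ ∈ j.range := fun x a => hjn.conj_mem _ ⟨a, rfl⟩ x
  have hRn : (R.map j).Normal := by
    refine ⟨fun y hy x => ?_⟩
    let ρ := MonoidHom.ofInjective hj
    let φ : MulAut A := (ρ.trans (MulAut.conjNormal x)).trans ρ.symm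
    have hmap : R.map φ.toMonoidHom = R := by rw [← hF]; exact Components.generalizedFitting_map_equiv φ
    obtain ⟨a, ha, rfl⟩ := hy
    refine ⟨φ a, hmap ▸ ⟨a, ha, rfl⟩, ?_⟩
    show j (φ a) = _
    rw [show j (φ a) = (ρ (φ a) : B) from rfl]
    simp only [φ, MulEquiv.trans_apply, MulEquiv.apply_symm_apply]
    rw [MulAut.conjNormal_apply]
    rfl
  have hR2 : IsPGroup 2 ↥(R.map j) := hR.map j
  set P := Cfsg.pCore 2 B
  haveI hPn : P.Normal := FittingCores.pCore_normal 2
  have hle : R.map j ≤ P := PBasic.le_pCore hRn hR2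
  have hin : ∀ y ∈ P, y ∈ j.range → y ∈ R.map j := fun y hy ⟨a, ha⟩ => by
    refine ⟨a, ?_, ha⟩
    rw [← hF]
    exact (Components.pCore_le_fittingSubgroup.trans Components.fitting_le_generalizedFitting)
      (pCore_map_le j hj (Subgroup.mem_comap.2 (ha ▸ hy)))
  have hP : P = R.map j := by
    refine le_antisymm (fun x hx => ?_) hle
    by_cases hxr : x ∈ j.range
    · exact hin x hx hxr
    · refine absurd (fun a => hin _ ?_ ?_) (hout x hxr)
      · rw [commutatorElement_def, show x * j a * x⁻¹ * (j a)⁻¹ = x * (j a * x⁻¹ * (j a)⁻¹) by group]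
        exact mul_mem hx (hPn.conj_mem _ (inv_mem hx) _)
      · rw [commutatorElement_def]
        exact mul_mem (hconj x a) (inv_mem ⟨a, rfl⟩)
  rw [← hP]
  refine Components.generalizedFitting_eq_pCore_iff.2 ?_
  show Subgroup.centralizer (P : Set B) ≤ P
  rw [hP]
  have hc : ∀ y ∈ Subgroup.centralizer (R.map j : Set B), y ∈ j.range → y ∈ R.map j := fun y hy ⟨a, ha⟩ => by
    refine ⟨a, ?_, ha⟩
    rw [← hF]
    refine Components.centralizer_generalizedFitting_le (Subgroup.mem_centralizer_iff.2 fun r hr => hj ?_)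
    rw [hF] at hr
    have := Subgroup.mem_centralizer_iff.1 hy (j r) ⟨r, hr, rfl⟩
    rw [map_mul, map_mul, ha]
    exact this
  intro x hx
  by_cases hxr : x ∈ j.range
  · exact hc x hx hxr
  · refine absurd (fun a => hc _ ?_ ?_) (hout x hxr)
    · haveI := hRn
      haveI : (Subgroup.centralizer (R.map j : Set B)).Normal := Subgroup.normal_centralizer
      rw [commutatorElement_def, show x * j a * x⁻¹ * (j a)⁻¹ = x * (j a * x⁻¹ * (j a)⁻¹) by group]
      exact mul_mem hx (Subgroup.Normal.conj_mem inferInstance _ (inv_mem hx) _)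
    · rw [commutatorElement_def]
      exact mul_mem (hconj x a) (inv_mem ⟨a, rfl⟩)

/-- Centralisers of corresponding elements. -/
noncomputable def centMap {A : Type u} {B : Type v} [Group A] [Group B] (e : A ≃* B) (x : A) :
    ↥(Subgroup.centralizer ({x} : Set A)) ≃* ↥(Subgroup.centralizer ({e x} : Set B)) :=
  (e.subgroupMap (Subgroup.centralizer ({x} : Set A))).trans (MulEquiv.subgroupCongr (by
    ext y
    show y ∈ Subgroup.map e.toMonoidHom _ ↔ _
    rw [Subgroup.mem_map_equiv, Subgroup.mem_centralizer_singleton_iff, Subgroup.mem_centralizer_singleton_iff,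
      ← e.injective.eq_iff, map_mul, map_mul, e.apply_symm_apply]))

@[simp] theorem coe_centMap {A : Type u} {B : Type v} [Group A] [Group B] (e : A ≃* B) (x : A)
    (a : ↥(Subgroup.centralizer ({x} : Set A))) :
    ((centMap e x a : ↥(Subgroup.centralizer ({e x} : Set B))) : B) = e a := rfl

/-- Transport of the extraspecial centraliser setting. -/
theorem setting_map {A : Type u} {B : Type v} [Group A] [Group B] (e : A ≃* B) {x : A}
    {R : Subgroup ↥(Subgroup.centralizer ({x} : Set A))} {w : ℕ}
    (h : Cfsg.IsExtraspecialCentralizerSetting x R w) :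
    Cfsg.IsExtraspecialCentralizerSetting (e x) (R.map (centMap e x).toMonoidHom) w := by
  obtain ⟨h1, h2, h3, h4, g, ⟨hq, hqR⟩, hne⟩ := h
  refine ⟨by rw [e.orderOf_eq, h1], by rw [← h2]; exact (Components.generalizedFitting_map_equiv _).symm,
    Qd.isExtraspecial_congr ((centMap e x).subgroupMap R).symm h3,
    by rw [Subgroup.card_map_of_injective (centMap e x).injective, h4], e g, ?_, fun he => hne (e.injective ?_)⟩
  · have he : e g * e x * (e g)⁻¹ = e (g * x * g⁻¹) := by rw [map_mul, map_mul, map_inv]
    refine ⟨he ▸ (centMap e x ⟨_, hq⟩).2, ⟨_, hq⟩, hqR, ?_⟩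
    exact Subtype.ext ((coe_centMap e x _).trans he.symm)
  · rw [map_mul, map_mul, map_inv, he]

/-- A subgroup of index two containing a component layer of index two is that layer. -/
theorem index_two_simple {X : Type u} [Group X] [Finite X] (G₀ : Subgroup X) (hidx : G₀.index = 2)
    (hlayer : (Cfsg.layer X).index = 2) (hZ : ∀ (p : ℕ) [Fact p.Prime], Cfsg.pCore p X = ⊥)
    (hcomp : ∃ L : Subgroup X, Cfsg.IsComponent L ∧ Cfsg.layer X = L) :
    G₀ = commutator X ∧ IsSimpleGroup ↥G₀ ∧ commutator ↥G₀ = ⊤ := by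
  obtain ⟨L, hL, hlL⟩ := hcomp
  rw [hlL] at hlayer
  haveI hG₀n : G₀.Normal := Subgroup.normal_of_index_eq_two hidx
  haveI hLn : L.Normal := Subgroup.normal_of_index_eq_two hlayer
  haveI := hL.2.1
  have hperf : ⁅L, L⁆ = L := by
    conv_lhs => rw [← L.range_subtype, MonoidHom.range_eq_map, ← Subgroup.map_commutator, ← commutator_def,
      Group.IsPerfect.commutator_eq_top, ← MonoidHom.range_eq_map, L.range_subtype]
  have hc : commutator X ≤ G₀ := by
    haveI : Fact (Nat.Prime 2) := ⟨Nat.prime_two⟩
    haveI : IsCyclic (X ⧸ G₀) := isCyclic_of_prime_card (p := 2) (by rw [← Subgroup.index_eq_card, hidx])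
    exact (Subgroup.Normal.quotient_commutative_iff_commutator_le).1 IsCyclic.commutative
  have hLc : L ≤ commutator X := by
    rw [← hperf]; exact Subgroup.commutator_mono le_top le_top
  have e : L = G₀ := by
    refine Subgroup.eq_of_le_of_card_ge (hLc.trans hc) ?_
    have h1 := L.card_mul_index
    have h2 := G₀.card_mul_index
    rw [hlayer] at h1; rw [hidx] at h2
    omega
  subst e
  refine ⟨le_antisymm hLc hc, ?_, Group.IsPerfect.commutator_eq_top⟩
  have hbot : Subgroup.center ↥L = ⊥ := by
    by_contra hne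
    obtain ⟨p, hp, hdvd⟩ := Nat.exists_prime_and_dvd (n := Nat.card ↥(Subgroup.center ↥L))
      (fun h => hne (Subgroup.card_eq_one.1 h))
    haveI := Fact.mk hp
    set Z := (Subgroup.center ↥L).map L.subtype with hZdef
    have hdvd' : p ∣ Nat.card ↥Z := by
      rw [hZdef, Subgroup.card_map_of_injective L.subtype_injective]; exact hdvd
    have hcomm : ∀ a b : ↥Z, a * b = b * a := by
      rintro ⟨_, a, ha, rfl⟩ ⟨_, b, -, rfl⟩
      exact Subtype.ext (congrArg L.subtype (Subgroup.mem_center_iff.1 ha b).symm)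
    obtain ⟨S⟩ := (inferInstance : Nonempty (Sylow p ↥Z))
    haveI hSn : (S : Subgroup ↥Z).Normal := ⟨fun a ha g => by rwa [hcomm g a, mul_inv_cancel_right]⟩
    haveI hSc : (S : Subgroup ↥Z).Characteristic := S.characteristic_of_normal hSn
    haveI : Z.Normal := inferInstance
    have hle := PBasic.le_pCore (N := (S : Subgroup ↥Z).map Z.subtype) inferInstance (S.isPGroup'.map _) (p := p)
    rw [hZ p, le_bot_iff, Subgroup.map_eq_bot_iff_of_injective _ Z.subtype_injective] at hle
    have hd := S.dvd_card_of_dvd_card hdvd'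
    rw [hle, Subgroup.card_bot] at hd
    exact hp.one_lt.ne' (Nat.dvd_one.1 hd)
  exact ((QuotientGroup.quotientMulEquivOfEq hbot).trans QuotientGroup.quotientBot).isSimpleGroup_congr.1 hL.2.2

end Cfsg.Agent.FischerAut24
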