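import Cfsg.Agent.Lib.FischerAut24.Three
import Cfsg.Agent.Lib.LargeFischer.PairOuter
import Cfsg.Agent.Lib.Fischer.Classes
import Cfsg.Agent.Lib.Classification.Basic
import Cfsg.Agent.Lib.FischerLocal24.Chart

/-!
The class of outer involutions of a group with a subgroup of index two of large Fischer type, with the
transpositions of their inner centralisers and the central involution as the pole.
-/

set_option autoImplicit false
set_option linter.unusedSectionVars false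
set_option maxRecDepth 100000

namespace Cfsg.Agent.FischerAut24

open Cfsg.Agent.FischerUnique24 (Is23)

universe u

theorem prim_of_simple {G : Type u} [Group G] [Finite G] [IsSimpleGroup G] {D : Set G}
    (hD : Cfsg.IsThreeTranspositionClass D) (hZ : Subgroup.center G = ⊥) : Cfsg.IsPrimitiveUnderConj D := by
  have hnc : ¬ ∀ a b : G, a * b = b * a := fun hcomm => by
    obtain ⟨a, ha⟩ := exists_ne (1 : G)
    exact ha (Subgroup.mem_bot.1 (hZ ▸ Subgroup.mem_center_iff.2 fun b => hcomm b a))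
  have hsol : ∀ N : Subgroup G, N.Normal → Group.IsSolvable ↥N → N = ⊥ := by
    intro N hN hs
    refine hN.eq_bot_or_eq_top.resolve_right fun h => ?_
    subst h
    haveI : Group.IsSolvable G := Group.isSolvable_of_surjective (f := (⊤ : Subgroup G).subtype)
      (fun g => ⟨⟨g, Subgroup.mem_top g⟩, rfl⟩)
    exact hnc ((IsSimpleGroup.comm_iff_isSolvable (G := G)).2 inferInstance)
  obtain ⟨-, h2, h3, hne⟩ := Fischer.TClass.of_no_solvable hD hsol
  have hperf : Group.IsPerfect G := ⟨by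
    refine (inferInstance : (commutator G).Normal).eq_bot_or_eq_top.resolve_left fun h => hnc fun a b => ?_
    have hc := Subgroup.commutator_mem_commutator (Subgroup.mem_top a) (Subgroup.mem_top b)
    rw [← commutator_def, h, Subgroup.mem_bot, commutatorElement_eq_one_iff_mul_comm] at hc
    exact hc⟩
  have hqs : Cfsg.IsQuasisimple G :=
    ⟨hperf, ((QuotientGroup.quotientMulEquivOfEq hZ).trans QuotientGroup.quotientBot).isSimpleGroup_congr.2
      inferInstance⟩
  refine Fischer.TClass.primitive_of_index hD hne (h2.trans_le bot_le) (h3.trans_le bot_le)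
    (L := ⊤) ⟨Subgroup.Normal.isSubnormal inferInstance,
      ClassBasic.isQuasisimple_of_mulEquiv Subgroup.topEquiv.symm hqs⟩ ?_
  rw [Subgroup.index_top]; norm_num

theorem fi23_prim : Cfsg.IsPrimitiveUnderConj FischerPresented.Fi23.D := by
  haveI := FischerPresented.Fi23.isSimpleGroup
  haveI : Finite FischerUnique23.GT := FischerPresented.Fi23.order_facts.1
  exact prim_of_simple FischerPresented.Fi23.isClass Fi23Type.center_GT

variable {X : Type u} [Group X]

/-- The transpositions of the centraliser of a conjugate of the base. -/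
def Trp (d : X) (Td : Set X) (x : X) : Set X := {k | ∃ g : X, g * d * g⁻¹ = x ∧ g⁻¹ * k * g ∈ Td}

/-- Conjugation carries inner centralisers to inner centralisers. -/
def ycEquiv (G₀ : Subgroup X) [G₀.Normal] (g x y : X) (h : g * x * g⁻¹ = y) :
    ↥(Yc G₀ x) ≃* ↥(Yc G₀ y) :=
  ((MulAut.conj g).subgroupMap (Yc G₀ x)).trans (MulEquiv.subgroupCongr (by
    subst h
    ext a
    show a ∈ (Yc G₀ x).map (MulAut.conj g).toMonoidHom ↔ _
    rw [Subgroup.mem_map_equiv, mem_Yc, mem_Yc, MulAut.conj_symm_apply]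
    refine and_congr ⟨fun ha => ?_, fun ha => ?_⟩ ⟨fun ha => ?_, fun ha => ?_⟩
    · simpa [mul_assoc] using Subgroup.Normal.conj_mem ‹G₀.Normal› _ ha g
    · simpa [mul_assoc] using Subgroup.Normal.conj_mem ‹G₀.Normal› _ ha g⁻¹
    · simpa [mul_assoc] using ha.map (MulAut.conj g).toMonoidHom
    · simpa [mul_assoc] using ha.map (MulAut.conj g⁻¹).toMonoidHom))

@[simp] theorem coe_ycEquiv (G₀ : Subgroup X) [G₀.Normal] (g x y : X) (h : g * x * g⁻¹ = y)
    (a : ↥(Yc G₀ x)) : ((ycEquiv G₀ g x y h a : ↥(Yc G₀ y)) : X) = g * a * g⁻¹ := rfl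

variable [Finite X] {G₀ : Subgroup X} {d : X} {t : ↥(Yc G₀ d)}

local notation "Td" => (Subtype.val '' conjugatesOf t : Set X)

theorem td_inv (hidx : G₀.index = 2) (hd0 : d ∉ G₀) {h k : X} (hh : h * d * h⁻¹ = d)
    (hk : k ∈ Td) : h * k * h⁻¹ ∈ Td := by
  obtain ⟨y, hy, rfl⟩ := hk
  have key : ∀ a : ↥(Yc G₀ d), (a : X) * y * (a : X)⁻¹ ∈ Td := fun a =>
    ⟨a * y * a⁻¹, IsConj.trans hy (isConj_iff.2 ⟨a, rfl⟩), by simp⟩
  have hc : Commute h d := commute_iff_conj_eq.2 hh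
  by_cases h0 : h ∈ G₀
  · exact key ⟨h, mem_Yc.2 ⟨h0, hc⟩⟩
  · have h1 : h * d ∈ G₀ := (Subgroup.mul_mem_iff_of_index_two hidx).2 (iff_of_false h0 hd0)
    have e : h * (y : X) * h⁻¹ = h * d * y * (h * d)⁻¹ := by
      rw [mul_assoc h d, ← (mem_Yc.1 y.2).2.eq]; group
    rw [e]
    exact key ⟨h * d, mem_Yc.2 ⟨h1, hc.mul_left (Commute.refl d)⟩⟩

theorem trp_iff (hidx : G₀.index = 2) (hd0 : d ∉ G₀) {g x k : X} (hg : g * d * g⁻¹ = x) :
    k ∈ Trp d Td x ↔ g⁻¹ * k * g ∈ Td := by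
  refine ⟨fun ⟨g', hg', hk⟩ => ?_, fun hk => ⟨g, hg, hk⟩⟩
  have hh : g⁻¹ * g' * d * (g⁻¹ * g')⁻¹ = d := by
    calc g⁻¹ * g' * d * (g⁻¹ * g')⁻¹ = g⁻¹ * (g' * d * g'⁻¹) * g := by group
      _ = _ := by rw [hg', ← hg]; group
  have := td_inv hidx hd0 hh hk
  rwa [show g⁻¹ * g' * (g'⁻¹ * k * g') * (g⁻¹ * g')⁻¹ = g⁻¹ * k * g by group] at this

theorem pair_rep {x k : X} (hk : k ∈ Trp d Td x) :
    ∃ m : X, m * d * m⁻¹ = x ∧ m * t * m⁻¹ = k := by
  obtain ⟨g, rfl, y, hy, e⟩ := hk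
  obtain ⟨c, rfl⟩ := isConj_iff.1 hy
  refine ⟨g * c, ?_, ?_⟩
  · rw [show g * (c : X) * d * (g * (c : X))⁻¹ = g * ((c : X) * d * (c : X)⁻¹) * g⁻¹ by group,
      commute_iff_conj_eq.1 (mem_Yc.1 c.2).2]
  · rw [show k = g * (g⁻¹ * k * g) * g⁻¹ by group, ← e]
    show g * (c : X) * t * (g * (c : X))⁻¹ = g * ((c * t * c⁻¹ : ↥(Yc G₀ d)) : X) * g⁻¹
    simp [mul_assoc]

theorem kx_map [G₀.Normal] (m x k : X) :
    (Kx G₀ x k).map (MulAut.conj m).toMonoidHom = Kx G₀ (m * x * m⁻¹) (m * k * m⁻¹) ∧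
    (G₀ ⊓ Subgroup.centralizer ({k} : Set X)).map (MulAut.conj m).toMonoidHom =
      G₀ ⊓ Subgroup.centralizer ({m * k * m⁻¹} : Set X) := by
  have hG : ∀ a, m⁻¹ * a * m ∈ G₀ ↔ a ∈ G₀ := fun a => ⟨fun ha => by
    simpa [mul_assoc] using Subgroup.Normal.conj_mem ‹G₀.Normal› _ ha m,
    fun ha => by simpa [mul_assoc] using Subgroup.Normal.conj_mem ‹G₀.Normal› _ ha m⁻¹⟩
  have hC : ∀ a v, Commute (m⁻¹ * a * m) v ↔ Commute a (m * v * m⁻¹) := fun a v =>
    ⟨fun h => by simpa [mul_assoc] using h.map (MulAut.conj m).toMonoidHom,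
      fun h => by simpa [mul_assoc] using h.map (MulAut.conj m⁻¹).toMonoidHom⟩
  constructor
  · ext a
    rw [Subgroup.mem_map_equiv, MulAut.conj_symm_apply, mem_Kx, mem_Yc, mem_Kx, mem_Yc, hG, hC, hC]
  · ext a
    rw [Subgroup.mem_map_equiv, MulAut.conj_symm_apply, Subgroup.mem_inf, Subgroup.mem_inf, mem_cent, mem_cent,
      hG, hC]

theorem sys_of_base (hidx : G₀.index = 2) (hd : d * d = 1) (hd0 : d ∉ G₀)
    (h23 : Is23 (conjugatesOf t))
    (hhalf : (Kx G₀ d t).relIndex (G₀ ⊓ Subgroup.centralizer ({(t : X)} : Set X)) = 2)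
    (hcent : ∀ g ∈ G₀, Commute g (t : X) → (∀ y ∈ Kx G₀ d t, Commute g y) → g = 1 ∨ g = t) :
    Sys G₀ (conjugatesOf d) (Trp d Td) := by
  haveI : G₀.Normal := Subgroup.normal_of_index_eq_two hidx
  have hmul : ∀ {a b : X}, a ∉ G₀ → b ∉ G₀ → a * b ∈ G₀ := fun ha hb =>
    (Subgroup.mul_mem_iff_of_index_two hidx).2 (iff_of_false ha hb)
  have hE : ∀ {x : X}, x ∈ conjugatesOf d → ∃ g, g * d * g⁻¹ = x := fun hx => isConj_iff.1 hx
  have hout : ∀ {x : X}, x ∈ conjugatesOf d → x ∉ G₀ := fun hx h => by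
    obtain ⟨g, rfl⟩ := hE hx
    exact hd0 (by simpa [mul_assoc] using Subgroup.Normal.conj_mem ‹G₀.Normal› _ h g⁻¹)
  refine
    { idx := hidx, sq := ?_, out := fun x hx => hout hx
      conj := fun g x hx => IsConj.trans hx (isConj_iff.2 ⟨g, rfl⟩)
      trans := ?_, mem := ?_, Tconj := ?_, m23 := ?_, half := ?_, cent := ?_ }
  · intro x hx
    obtain ⟨g, rfl⟩ := hE hx
    rw [show g * d * g⁻¹ * (g * d * g⁻¹) = g * (d * d) * g⁻¹ by group, hd, mul_one, mul_inv_cancel]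
  · intro x hx y hy
    obtain ⟨a, ha⟩ := hE hx
    obtain ⟨b, hb⟩ := hE hy
    have key : b * a⁻¹ * x * (b * a⁻¹)⁻¹ = y := by rw [← ha, ← hb]; group
    by_cases h : b * a⁻¹ ∈ G₀
    · exact ⟨_, h, key⟩
    · refine ⟨b * a⁻¹ * x, hmul h (hout hx), ?_⟩
      rw [show b * a⁻¹ * x * x * (b * a⁻¹ * x)⁻¹ = b * a⁻¹ * x * (b * a⁻¹)⁻¹ by group, key]
  · intro x _ k hk
    obtain ⟨g, hg, y, -, e⟩ := hk
    rw [show k = g * y * g⁻¹ by rw [e]; group, ← hg]
    exact mem_Yc.2 ⟨Subgroup.Normal.conj_mem ‹G₀.Normal› _ (mem_Yc.1 y.2).1 g,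
      (mem_Yc.1 y.2).2.map (MulAut.conj g).toMonoidHom⟩
  · intro g x _ k hk'
    obtain ⟨a, ha, hk⟩ := hk'
    refine ⟨g * a, by rw [← ha]; group, ?_⟩
    rwa [show (g * a)⁻¹ * (g * k * g⁻¹) * (g * a) = a⁻¹ * k * a by group]
  · intro x hx
    obtain ⟨g, hg⟩ := hE hx
    set e := ycEquiv G₀ g d x hg
    obtain ⟨Φ, hΦ⟩ := FischerUnique23.exists_iso h23.group h23.prim h23.type
    have himg : (Φ.trans e) '' FischerPresented.Fi23.D = {y : ↥(Yc G₀ x) | (y : X) ∈ Trp d Td x} := by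
      rw [MulEquiv.coe_trans, Set.image_comp, hΦ]
      ext y
      rw [Set.mem_ofPred_eq, trp_iff hidx hd0 hg]
      constructor
      · rintro ⟨a, ha, rfl⟩
        exact ⟨a, ha, by rw [coe_ycEquiv]; group⟩
      · rintro ⟨a, ha, e'⟩
        exact ⟨a, ha, Subtype.ext (by rw [coe_ycEquiv, e']; group)⟩
    refine ⟨Fischer.TClass.toGroup (Fi23Type.isClass_map _ himg), ?_, Fi23Type.type_m23 _ himg⟩
    refine FischerLocal24.prim_of_equiv (Φ.trans e).symm ?_ fi23_prim
    rw [← himg, Set.image_image]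
    simp
  · intro x _ k hk
    obtain ⟨m, rfl, rfl⟩ := pair_rep hk
    obtain ⟨h1, h2⟩ := kx_map (G₀ := G₀) m d (t : X)
    rw [← h1, ← h2, Subgroup.relIndex_map_map_of_injective _ _ (MulAut.conj m).injective, hhalf]
  · intro x _ k hk g hg hgk hall
    obtain ⟨m, rfl, rfl⟩ := pair_rep hk
    obtain ⟨h1, -⟩ := kx_map (G₀ := G₀) m d (t : X)
    have hc : ∀ v, Commute g (m * v * m⁻¹) → Commute (m⁻¹ * g * m) v := fun v h => by
      simpa [mul_assoc] using h.map (MulAut.conj m⁻¹).toMonoidHom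
    have hm : m⁻¹ * g * m ∈ G₀ := by simpa [mul_assoc] using Subgroup.Normal.conj_mem ‹G₀.Normal› _ hg m⁻¹
    rcases hcent _ hm (hc _ hgk) (fun y hy => hc _ (hall _ (h1 ▸ ⟨y, hy, rfl⟩))) with e | e
    · left
      rw [show g = m * (m⁻¹ * g * m) * m⁻¹ by group, e]; simp
    · right
      rw [show g = m * (m⁻¹ * g * m) * m⁻¹ by group, e]

open LargeFischer LargeFischer.Six in
/-- The setting of the outer involution, with the central involution as the pole. -/
theorem exists_sys {X : Type u} [Group X] [Finite X] {G₀ : Subgroup X} {z : ↥G₀}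
    {Q : Subgroup ↥(Subgroup.centralizer ({z} : Set ↥G₀))} [Q.Normal] (S : Data z Q) (hidx : G₀.index = 2)
    (hcentral : ∃ P : Sylow 2 ↥G₀, z ∈ (P : Subgroup ↥G₀) ∧ ∀ x ∈ (P : Subgroup ↥G₀), Commute x z)
    (hFX : (Cfsg.generalizedFittingSubgroup ↥(Subgroup.centralizer ({(z : X)} : Set X))).map (Subgroup.subtype _) =
      (Q.map (Subgroup.subtype _)).map G₀.subtype) :
    ∃ d : X, d * d = 1 ∧ d ∉ G₀ ∧ Commute d (z : X) ∧ (∀ b ∈ S.C, Commute ((b : ↥G₀) : X) d) ∧
      ∃ t : ↥(Yc G₀ d), (t : X) = (S.eg 2 : ↥G₀) ∧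
      Sys G₀ (conjugatesOf d) (Trp d (Subtype.val '' conjugatesOf t)) ∧
      Pole G₀ (conjugatesOf d) (Trp d (Subtype.val '' conjugatesOf t)) (z : X) := by
  obtain ⟨d, hd, hd0, hdz, t, hto, ht, ⟨K, hK, eK, heK⟩, hnwc⟩ := S.fi23_type hidx hcentral hFX
  have hdd : d * d = 1 := by rw [← pow_two, ← hd]; exact pow_orderOf_eq_one d
  have ht2 : t * t = 1 := by rw [← pow_two, ← hto]; exact pow_orderOf_eq_one t
  refine ⟨d, hdd, hd0, hdz, fun b hb => ?_, t, ht, ?_, ?_⟩
  · have hbK : (⟨b, S.C_le_CT hb⟩ : ↥S.CT) ∈ K := hK.C_le (Subgroup.mem_subgroupOf.2 hb)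
    have := (eK ⟨_, hbK⟩).1.2.2
    rw [heK] at this
    exact mem_cent.1 this
  · have h23 : Is23 (conjugatesOf t) := by
      obtain ⟨ι⟩ := hK.iso
      set N := (Subgroup.zpowers t).subgroupOf (Subgroup.centralizer ({t} : Set ↥(G₀ ⊓ Subgroup.centralizer ({d} : Set X)))) with hN
      have hperf : commutator ↥(Subgroup.centralizer ({t} : Set ↥(G₀ ⊓ Subgroup.centralizer ({d} : Set X)))) = ⊤ := by
        rw [← Subgroup.map_top_of_surjective eK.toMonoidHom eK.surjective, ← hK.qs.1.commutator_eq_top,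
          commutator_def, commutator_def, Subgroup.map_commutator,
          Subgroup.map_top_of_surjective eK.toMonoidHom eK.surjective]
      have hmap : (S.Zt.subgroupOf K).map eK.toMonoidHom = N := by
        have key : ∀ (k : ↥K) (n : ℤ), t ^ n = (eK k).1 ↔ S.eg 2 ^ n = k.1.1 := fun k n => by
          constructor
          · intro h
            refine Subtype.ext ?_
            have h' := congrArg Subtype.val h
            rw [SubgroupClass.coe_zpow, heK, ht] at h'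
            rw [SubgroupClass.coe_zpow]
            exact h'
          · intro h
            refine Subtype.ext ?_
            rw [SubgroupClass.coe_zpow, heK, ht, ← SubgroupClass.coe_zpow, h]
        ext y
        obtain ⟨k, rfl⟩ := eK.surjective y
        rw [Subgroup.mem_map_equiv, MulEquiv.symm_apply_apply, Subgroup.mem_subgroupOf, Subgroup.mem_subgroupOf, hN,
          Subgroup.mem_subgroupOf, Subgroup.mem_zpowers_iff, Subgroup.mem_zpowers_iff]
        exact exists_congr fun n => (key k n).symm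
      haveI hNn : N.Normal := by
        rw [← hmap, hK.center_eq, Qd.map_center_eq eK]
        infer_instance
      let θ : ↥(Subgroup.centralizer ({t} : Set ↥(G₀ ⊓ Subgroup.centralizer ({d} : Set X)))) ⧸ N ≃* Fi22Local.GG :=
        (QuotientGroup.congr _ _ eK hmap).symm.trans ι
      let σ := θ.toMonoidHom.comp (QuotientGroup.mk' N)
      have hσ : ∀ x, σ x = 1 ↔ x ∈ N := fun x => by
        rw [← QuotientGroup.eq_one_iff (N := N)]
        exact ⟨fun h => θ.injective (h.trans (map_one _).symm), fun h => (congrArg θ h).trans (map_one _)⟩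
      obtain ⟨Ψ, hΨ⟩ := FischerM23Recog.exists_mulEquiv σ (θ.surjective.comp (QuotientGroup.mk'_surjective N)) hto
        (fun x hx => (hσ x).2 (Subgroup.mem_subgroupOf.2 (by rw [hx]; exact Subgroup.mem_zpowers t)))
        (fun x hx => by
          obtain ⟨n, hn⟩ := Subgroup.mem_zpowers_iff.1 (Subgroup.mem_subgroupOf.1 ((hσ x).1 hx))
          rw [← hn]
          rcases Int.even_or_odd' n with ⟨m, rfl | rfl⟩
          · left; rw [zpow_mul, zpow_two, ht2, one_zpow]
          · right; rw [zpow_add_one, zpow_mul, zpow_two, ht2, one_zpow, one_mul])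
        hperf hnwc
      refine ⟨Fischer.TClass.toGroup (Fi23Type.isClass_map _ hΨ), ?_, Fi23Type.type_m23 _ hΨ⟩
      refine FischerLocal24.prim_of_equiv Ψ.symm ?_ fi23_prim
      rw [← hΨ, Set.image_image]
      simp
    have hKx : Kx G₀ d (t : X) = (K.map S.CT.subtype).map G₀.subtype := by
      ext g
      rw [mem_Kx]
      constructor
      · rintro ⟨hg, hgt⟩
        obtain ⟨k, hk⟩ := eK.surjective ⟨⟨g, hg⟩, mem_cent.2 (Subtype.ext hgt.eq)⟩
        refine ⟨k.1.1, ⟨k.1, k.2, rfl⟩, ?_⟩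
        have := heK k
        rw [hk] at this
        exact this.symm
      · rintro ⟨_, ⟨k, hk, rfl⟩, rfl⟩
        have e := heK ⟨k, hk⟩
        change _ = G₀.subtype (S.CT.subtype k) at e
        rw [← e]
        exact ⟨(eK ⟨k, hk⟩).1.2, (mem_cent.1 (eK ⟨k, hk⟩).2).map (G₀ ⊓ Subgroup.centralizer ({d} : Set X)).subtype⟩
    have hC : G₀ ⊓ Subgroup.centralizer ({(t : X)} : Set X) = S.CT.map G₀.subtype := by
      ext g
      rw [Subgroup.mem_inf, mem_cent]
      constructor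
      · rintro ⟨hg, hgt⟩
        rw [ht] at hgt
        exact ⟨⟨g, hg⟩, S.mem_CT.2 (Subtype.ext hgt.eq), rfl⟩
      · rintro ⟨a, ha, rfl⟩
        exact ⟨a.2, ht ▸ congrArg Subtype.val (S.mem_CT.1 ha)⟩
    refine sys_of_base hidx hdd hd0 h23 ?_ fun g hg hgt hall => ?_
    · rw [hKx, hC, Subgroup.relIndex_map_map_of_injective _ _ G₀.subtype_injective, ← hK.index,
        Subgroup.relIndex, ← Subgroup.comap_subtype,
        Subgroup.comap_map_eq_self_of_injective S.CT.subtype_injective]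
    · set a : ↥S.CT := ⟨⟨g, hg⟩, S.mem_CT.2 (Subtype.ext (by have := hgt.eq; rwa [ht] at this))⟩ with ha
      have hk : ∀ k ∈ K, Commute a k := fun k hk => Subtype.ext (Subtype.ext
        (hall _ (hKx ▸ ⟨k.1, ⟨k, hk, rfl⟩, rfl⟩)))
      have : (⟨a, hK.cent_le _ hk⟩ : ↥K) ∈ S.Zt.subgroupOf K := hK.center_eq.ge
        (Subgroup.mem_center_iff.2 fun k => Subtype.ext (hk k.1 k.2).symm.eq)
      rcases S.mem_Zt.1 (Subgroup.mem_subgroupOf.1 this) with e | e
      · exact Or.inl (congrArg Subtype.val e)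
      · exact Or.inr ((congrArg Subtype.val e).trans ht.symm)
  · refine ⟨z.2, congrArg Subtype.val S.D.ctx.xs.sq, fun e => S.D.ctx.xs.ne_one (Subtype.ext e), ?_,
      d, mem_conjugatesOf_self, hdz.symm⟩
    rintro ⟨x, -, hk⟩
    obtain ⟨m, -, hm⟩ := pair_rep hk
    obtain ⟨m', hm0, hm'⟩ : ∃ m' ∈ G₀, m' * (t : X) * m'⁻¹ = z := by
      by_cases h : m ∈ G₀
      · exact ⟨m, h, hm⟩
      · refine ⟨m * d, (Subgroup.mul_mem_iff_of_index_two hidx).2 (iff_of_false h hd0), ?_⟩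
        rw [show m * d * t * (m * d)⁻¹ = m * (d * t * d⁻¹) * m⁻¹ by group,
          commute_iff_conj_eq.1 (mem_Yc.1 t.2).2.symm, hm]
    rw [ht] at hm'
    exact absurd ((S.isConj_eg (i := 2) (by norm_num)).1
      (isConj_comm.1 (isConj_iff.2 ⟨⟨m', hm0⟩, Subtype.ext hm'⟩))) (by decide +kernel)

end Cfsg.Agent.FischerAut24
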