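import Cfsg.Agent.Lib.FischerAut24.Graph
import Cfsg.Agent.Lib.Fi23Type.Type
import Cfsg.Agent.Lib.FischerClassTy.StepM23

/-!
The class is a class of 3-transpositions and the group is of type M(24).
-/

set_option autoImplicit false
set_option linter.unusedSectionVars false
set_option maxRecDepth 100000

namespace Cfsg.Agent.FischerAut24

open Cfsg.Agent.Fischer.Factor
open Cfsg.Agent.FischerUnique24 (Is23 Far)
open scoped commutatorElement

universe u

variable {X : Type u} [Group X]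

theorem not_pow_card {p n : ℕ} [Fact p.Prime] (h : 4089470473293004800 = p ^ n) : False := by
  have key : ∀ q : ℕ, q.Prime → q ∣ 4089470473293004800 → q = p := fun q hq hd =>
    (Nat.prime_dvd_prime_iff_eq hq Fact.out).1 (hq.dvd_of_dvd_pow (h ▸ hd))
  exact absurd ((key 17 (by norm_num) (by norm_num)).trans (key 23 (by norm_num) (by norm_num)).symm) (by norm_num)

namespace Sys

variable [Finite X] {G₀ : Subgroup X} {E : Set X} {T : X → Set X} (S : Sys G₀ E T)
variable {z : X} (P : Pole G₀ E T z) (hN : NearPole E z)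
include S P hN

theorem tset : Cfsg.IsThreeTranspositionSet E := by
  refine ⟨fun x hx => orderOf_eq_prime (by rw [pow_two, S.sq x hx]) fun e => S.out x hx (e ▸ one_mem _),
    fun a ha b hb => ?_⟩
  by_cases hab : Commute a b
  · exact Or.inl (by rw [hab.mul_pow, pow_two, pow_two, S.sq a ha, S.sq b hb, one_mul])
  right
  obtain ⟨c, hc, hac, hcb⟩ := S.near_all P hN ha hb
  have hA := S.nb_mem P hc ha hac.symm fun e => hab (e ▸ hcb)
  have hB := S.nb_mem P hc hb hcb fun e => hab (e ▸ hac)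
  have back : ∀ y : X, c * (c * y) = y := fun y => by rw [← mul_assoc, S.sq c hc, one_mul]
  have hn : ¬ Commute (c * a) (c * b) := fun h => hab (by
    have := (S.comm_iff hc hA hB).2 h
    rwa [back, back] at this)
  have h3 := congrArg Subtype.val (Fischer.TSet.cube (S.m23 c hc).group.1
    (a := ⟨c * a, S.mem c hc _ hA⟩) (b := ⟨c * b, S.mem c hc _ hB⟩) hA hB fun h => hn (h.map (Yc G₀ c).subtype))
  have e : c * a * (c * b) = a * b := by rw [← hac.eq, mul_assoc a, back]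
  simpa [e] using h3

theorem Yc_le {x : X} (hx : x ∈ E) {H : Subgroup X} (h : ∀ k ∈ T x, k ∈ H) : Yc G₀ x ≤ H := by
  intro g hg
  have : Subgroup.closure {y : ↥(Yc G₀ x) | (y : X) ∈ T x} ≤ H.comap (Yc G₀ x).subtype :=
    (Subgroup.closure_le _).2 fun y hy => h y hy
  exact this ((S.m23 x hx).group.2.2 ▸ Subgroup.mem_top (⟨g, hg⟩ : ↥(Yc G₀ x)))

theorem T_mul {x k : X} (hx : x ∈ E) (hk : k ∈ T x) : x * (x * k) = k ∧ x * k ∈ E := by
  rw [← mul_assoc, S.sq x hx, one_mul]; exact ⟨rfl, (S.pair_other hx hk).1⟩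

theorem Yc_le_closure {x : X} (hx : x ∈ E) : Yc G₀ x ≤ Subgroup.closure E :=
  S.Yc_le P hN hx fun k hk => by
    obtain ⟨h1, h2⟩ := S.T_mul P hN hx hk
    exact h1 ▸ mul_mem (Subgroup.subset_closure hx) (Subgroup.subset_closure h2)

theorem trans_closure {a b : X} (ha : a ∈ E) (hb : b ∈ E) :
    ∃ g ∈ Subgroup.closure E, g * a * g⁻¹ = b := by
  have step : ∀ {a b : X}, a ∈ E → b ∈ E → Commute a b → ∃ g ∈ Subgroup.closure E, g * a * g⁻¹ = b := by
    intro a b ha hb hc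
    by_cases hne : b = a
    · exact ⟨1, one_mem _, by rw [hne]; group⟩
    have hu := S.nb_mem P ha hb hc hne
    set U : ↥(Yc G₀ a) := ⟨a * b, S.mem a ha _ hu⟩
    obtain ⟨W, hW, hWU, hcW⟩ := Set.nonempty_of_ncard_ne_zero (s := Nb {y : ↥(Yc G₀ a) | (y : X) ∈ T a} U) (by
      rw [(S.m23 a ha).card_nb (d := U) hu]; norm_num)
    have hw : (W : X) ∈ T a := hW
    set c := a * (W : X)
    have hcE : c ∈ E := (S.pair_other ha hw).1
    have hca : Commute c a := ((Commute.refl a).mul_left (S.comm_T ha hw).symm)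
    have hcb : Commute c b := by
      have := (S.comm_iff ha hw hu).2 (hcW.symm.map (Yc G₀ a).subtype)
      rwa [← mul_assoc a a, S.sq a ha, one_mul] at this
    have hP := S.nb_mem P hcE ha hca fun e => S.ne_one ha hw (mul_eq_left.1 e.symm)
    have hQ := S.nb_mem P hcE hb hcb fun e => hWU (Subtype.ext (by
      show (W : X) = a * b
      rw [e, show c = a * (W : X) from rfl, ← mul_assoc, S.sq a ha, one_mul]))
    obtain ⟨h, hh⟩ := (S.m23 c hcE).prim.1 ⟨c * a, S.mem c hcE _ hP⟩ hP ⟨c * b, S.mem c hcE _ hQ⟩ hQ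
    refine ⟨h, S.Yc_le_closure P hN hcE h.2, ?_⟩
    have h1 : (h : X) * (c * a) * (h : X)⁻¹ = c * b := congrArg Subtype.val hh
    rw [show (h : X) * (c * a) * (h : X)⁻¹ = (h : X) * c * (h : X)⁻¹ * (h * a * (h : X)⁻¹) by group,
      commute_iff_conj_eq.1 (mem_Yc.1 h.2).2] at h1
    exact mul_left_cancel h1
  obtain ⟨c, hc, h1, h2⟩ := S.near_all P hN ha hb
  obtain ⟨g, hg, rfl⟩ := step ha hc h1
  obtain ⟨g', hg', rfl⟩ := step hc hb h2
  exact ⟨g' * g, mul_mem hg' hg, by group⟩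

theorem closure_top : Subgroup.closure E = ⊤ := by
  obtain ⟨x, hx, -⟩ := P.exists_fix
  refine eq_top_iff.2 fun g _ => ?_
  obtain ⟨n, hn, hnx⟩ := S.trans_closure P hN hx (S.conj g x hx)
  have hm : Commute (n⁻¹ * g) x := commute_iff_conj_eq.2 (by
    rw [show n⁻¹ * g * x * (n⁻¹ * g)⁻¹ = n⁻¹ * (g * x * g⁻¹) * n by group, ← hnx]; group)
  have hxN : x ∈ Subgroup.closure E := Subgroup.subset_closure hx
  suffices n⁻¹ * g ∈ Subgroup.closure E by
    simpa using mul_mem hn this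
  by_cases hG : n⁻¹ * g ∈ G₀
  · exact S.Yc_le_closure P hN hx (mem_Yc.2 ⟨hG, hm⟩)
  · have := S.Yc_le_closure P hN hx (mem_Yc.2 ⟨S.mul_out hG (S.out x hx), hm.mul_left (Commute.refl x)⟩)
    simpa using mul_mem this (inv_mem hxN)

theorem isClass : Cfsg.IsThreeTranspositionClass E := by
  obtain ⟨x, hx, -⟩ := P.exists_fix
  refine ⟨S.tset P hN, ⟨x, hx, ?_⟩, S.closure_top P hN⟩
  ext y
  constructor
  · intro hy
    obtain ⟨g, -, rfl⟩ := S.trans x hx y hy
    exact isConj_iff.2 ⟨g, rfl⟩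
  · intro hy
    obtain ⟨g, rfl⟩ := isConj_iff.1 (show IsConj x y from hy)
    exact S.conj g x hx

theorem tgroup : Cfsg.IsThreeTranspositionGroup E :=
  ⟨S.tset P hN, fun g x hx => S.conj g x hx, S.closure_top P hN⟩

theorem noncomm_pair {x : X} (hx : x ∈ E) :
    ∃ u v : ↥(Yc G₀ x), (u : X) ∈ T x ∧ (v : X) ∈ T x ∧ ¬ Commute u v := by
  have h := S.m23 x hx
  obtain ⟨u, hu⟩ := Set.nonempty_of_ncard_ne_zero (s := {y : ↥(Yc G₀ x) | (y : X) ∈ T x}) (by
    rw [h.card_class]; norm_num)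
  obtain ⟨v, hv⟩ := Set.nonempty_of_ncard_ne_zero (s := Far {y : ↥(Yc G₀ x) | (y : X) ∈ T x} u) (by
    rw [h.card_far hu]; norm_num)
  exact ⟨u, v, hu, hv.1, hv.2⟩

theorem center_Yc {x : X} (hx : x ∈ E) : Subgroup.center ↥(Yc G₀ x) = ⊥ := by
  haveI := (S.m23 x hx).simple
  refine (Subgroup.Normal.eq_bot_or_eq_top inferInstance).resolve_right fun h => ?_
  obtain ⟨u, v, -, -, huv⟩ := S.noncomm_pair P hN hx
  exact huv ((Subgroup.mem_center_iff.1 (h ▸ Subgroup.mem_top u) v).symm)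

theorem center_bot : Subgroup.center X = ⊥ := by
  obtain ⟨x, hx, -⟩ := P.exists_fix
  refine eq_bot_iff.2 fun g hg => Subgroup.mem_bot.2 ?_
  have hgc : ∀ y, Commute g y := fun y => (Subgroup.mem_center_iff.1 hg y).symm
  have key : ∀ w : X, w ∈ Yc G₀ x → (∀ y ∈ Yc G₀ x, Commute w y) → w = 1 := fun w hw h => by
    have : (⟨w, hw⟩ : ↥(Yc G₀ x)) ∈ Subgroup.center _ :=
      Subgroup.mem_center_iff.2 fun y => Subtype.ext (h y y.2).eq.symm
    rw [S.center_Yc P hN hx, Subgroup.mem_bot] at this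
    exact congrArg Subtype.val this
  by_cases hG : g ∈ G₀
  · exact key g (mem_Yc.2 ⟨hG, hgc x⟩) fun y _ => hgc y
  · exfalso
    have hgx := key (g * x) (mem_Yc.2 ⟨S.mul_out hG (S.out x hx), (hgc x).mul_left (Commute.refl x)⟩)
      fun y hy => (hgc y).mul_left (mem_Yc.1 hy).2.symm
    rw [mul_eq_one_iff_eq_inv, S.inv_eq hx] at hgx
    obtain ⟨u, -, hu, -, -⟩ := S.noncomm_pair P hN hx
    obtain ⟨k, -, hk⟩ := S.trans x hx _ (S.pair_other hx hu).1
    have : x = x * (u : X) := by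
      rw [← hk, ← hgx, (hgc k).symm.eq, mul_inv_cancel_right]
    exact S.ne_one hx hu (left_eq_mul.1 this)

theorem pCore_bot {p : ℕ} [Fact p.Prime] : Cfsg.pCore p X = ⊥ := by
  refine le_bot_iff.1 (sSup_le ?_)
  rintro N ⟨hNn, hNp⟩
  obtain ⟨x, hx, -⟩ := P.exists_fix
  have hY : ∀ y ∈ E, ∀ m ∈ N, m ∈ Yc G₀ y → m = 1 := by
    intro y hy m hm hmy
    haveI := (S.m23 y hy).simple
    haveI := hNn.subgroupOf (Yc G₀ y)
    rcases (Subgroup.Normal.eq_bot_or_eq_top (H := N.subgroupOf (Yc G₀ y)) inferInstance) with e | e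
    · have : (⟨m, hmy⟩ : ↥(Yc G₀ y)) ∈ N.subgroupOf (Yc G₀ y) := hm
      rw [e, Subgroup.mem_bot] at this
      exact congrArg Subtype.val this
    · exfalso
      have hp : IsPGroup p ↥(N.subgroupOf (Yc G₀ y)) :=
        hNp.comap_subtype
      obtain ⟨n, hn⟩ := hp.exists_card_eq
      rw [e, Subgroup.card_top, (S.m23 y hy).card_group] at hn
      exact not_pow_card hn
  -- each member inverts the inner part
  have hinv : ∀ y ∈ E, ∀ m ∈ N ⊓ G₀, y * m * y = m⁻¹ := by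
    intro y hy m hm
    have hconj : ∀ a ∈ N ⊓ G₀, y * a * y ∈ N ⊓ G₀ := fun a ha => by
      have h1 := hNn.conj_mem a ha.1 y
      have h2 := S.norm y ha.2
      rw [S.inv_eq hy] at h1 h2
      exact ⟨h1, h2⟩
    let f : ↥(N ⊓ G₀) → ↥(N ⊓ G₀) := fun a =>
      ⟨(a : X)⁻¹ * (y * a * y), mul_mem (inv_mem a.2) (hconj a a.2)⟩
    have hf : Function.Injective f := fun a b h => by
      have h' : (a : X)⁻¹ * (y * a * y) = (b : X)⁻¹ * (y * b * y) := congrArg Subtype.val h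
      have hc : Commute ((b : X) * (a : X)⁻¹) y := by
        refine Eq.symm ?_
        calc y * ((b : X) * (a : X)⁻¹) = y * b * y * y * (a : X)⁻¹ := by
              rw [mul_assoc (y * b) y y, S.sq y hy, mul_one, mul_assoc]
          _ = b * ((b : X)⁻¹ * (y * b * y)) * y * (a : X)⁻¹ := by rw [mul_inv_cancel_left]
          _ = b * ((a : X)⁻¹ * (y * a * y)) * y * (a : X)⁻¹ := by rw [h']
          _ = b * (a : X)⁻¹ * y * a * (y * y) * (a : X)⁻¹ := by simp only [mul_assoc]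
          _ = _ := by rw [S.sq y hy, mul_one, mul_assoc _ (a : X), mul_inv_cancel, mul_one]
      have hab := mul_mem b.2 (inv_mem a.2)
      have := hY y hy _ hab.1 (mem_Yc.2 ⟨hab.2, hc⟩)
      exact Subtype.ext (mul_inv_eq_one.1 this).symm
    obtain ⟨a, ha⟩ := Finite.surjective_of_injective hf ⟨m, hm⟩
    have ha' : (a : X)⁻¹ * (y * a * y) = m := congrArg Subtype.val ha
    rw [← ha', mul_inv_rev, inv_inv, mul_inv_rev, mul_inv_rev, S.inv_eq hy]
    simp only [mul_assoc, S.sq y hy, mul_one]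
  have hM : ∀ m ∈ N ⊓ G₀, m = 1 := by
    intro m hm
    have hcT : ∀ k ∈ T x, k ∈ Subgroup.centralizer ({m} : Set X) := by
      intro k hk
      obtain ⟨h1, h2⟩ := S.T_mul P hN hx hk
      refine mem_cent.2 (commute_iff_conj_eq.2 ?_)
      conv_lhs => rw [← h1]
      rw [show x * (x * k) * m * (x * (x * k))⁻¹ = x * (x * k * m * (x * k)⁻¹) * x⁻¹ by group, S.inv_eq h2,
        S.inv_eq hx, hinv _ h2 m hm, hinv x hx _ (inv_mem hm), inv_inv]
    have hcY := S.Yc_le P hN hx hcT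
    obtain ⟨u, -, hu, -, -⟩ := S.noncomm_pair P hN hx
    rcases S.cent x hx u hu m hm.2 (mem_cent.1 (hcT u hu)).symm
      (fun y hy => (mem_cent.1 (hcY (mem_Kx.1 hy).1)).symm) with e | e
    · exact e
    · exact hY x hx m hm.1 (by rw [e]; exact S.mem x hx _ hu)
  intro n hn
  rw [Subgroup.mem_bot]
  have hc : n ∈ Subgroup.center X := Subgroup.mem_center_iff.2 fun g => by
    have hcm : g * n * g⁻¹ * n⁻¹ ∈ N ⊓ G₀ := by
      refine Subgroup.mem_inf.2 ⟨mul_mem (hNn.conj_mem n hn g) (inv_mem hn), ?_⟩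
      show g * n * g⁻¹ * n⁻¹ ∈ G₀
      simp only [Subgroup.mul_mem_iff_of_index_two S.idx, inv_mem_iff]
      tauto
    exact mul_inv_eq_iff_eq_mul.1 (mul_inv_eq_one.1 (hM _ hcm))
  rwa [S.center_bot P hN, Subgroup.mem_bot] at hc

theorem prim : Cfsg.IsPrimitiveUnderConj E := by
  obtain ⟨x, hx, -⟩ := P.exists_fix
  obtain ⟨u, -, hu, -, -⟩ := S.noncomm_pair P hN hx
  haveI : Fact (Nat.Prime 2) := ⟨Nat.prime_two⟩
  haveI : Fact (Nat.Prime 3) := ⟨Nat.prime_three⟩
  refine primitive_of_common (S.tgroup P hN) (fun a ha b hb => ?_) (fun a ha b hb _ => ?_)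
    ⟨x, hx, _, (S.pair_other hx hu).1, fun e => S.ne_one hx hu (left_eq_mul.1 e)⟩
    (S.pCore_bot P hN) (S.pCore_bot P hN)
  · obtain ⟨g, -, hg⟩ := S.trans a ha b hb
    exact ⟨g, hg⟩
  · obtain ⟨c, hc, h1, h2⟩ := S.near_all P hN ha hb
    exact ⟨c, hc, h1.symm, h2⟩

/-- The group is of type M(24). -/
theorem type_m24 : Cfsg.IsOfTypeM24 X E := by
  obtain ⟨x, hx, -⟩ := P.exists_fix
  obtain ⟨u, -, hu, -, -⟩ := S.noncomm_pair P hN hx
  have hS : FischerClass.Std E := ⟨S.tgroup P hN, S.prim P hN, S.center_bot P hN,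
    ⟨x, hx, _, (S.pair_other hx hu).1, fun e => S.ne_one hx hu (left_eq_mul.1 e),
      (Commute.refl x).mul_right (S.comm_T hx hu)⟩⟩
  classical
  set H := Subgroup.closure (Nb E x)
  have hH : ∀ g : H, Commute (g : X) x := fun g => (Fischer.Factor.commute_of_mem_closure_nb g.2).symm
  let pr : H → ↥(Yc G₀ x) := fun g =>
    if h : (g : X) ∈ G₀ then ⟨g, mem_Yc.2 ⟨h, hH g⟩⟩
    else ⟨(g : X) * x, mem_Yc.2 ⟨S.mul_out h (S.out x hx), (hH g).mul_left (Commute.refl x)⟩⟩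
  have hpr : ∀ g : H, ((g : X) ∈ G₀ → (pr g : X) = g) ∧ ((g : X) ∉ G₀ → (pr g : X) = g * x) := fun g =>
    ⟨fun h => by simp only [pr, dif_pos h], fun h => by simp only [pr, dif_neg h]⟩
  let φ : H →* ↥(Yc G₀ x) := MonoidHom.mk' pr fun a b => Subtype.ext (by
    have hi := Subgroup.mul_mem_iff_of_index_two S.idx (a := (a : X)) (b := (b : X))
    rw [Subgroup.coe_mul]
    by_cases ha : (a : X) ∈ G₀ <;> by_cases hb : (b : X) ∈ G₀
    · rw [(hpr a).1 ha, (hpr b).1 hb, (hpr (a * b)).1 (mul_mem ha hb)]; rfl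
    · rw [(hpr a).1 ha, (hpr b).2 hb, (hpr (a * b)).2 (fun h => hb ((hi.1 h).1 ha)), Subgroup.coe_mul, mul_assoc]
    · rw [(hpr a).2 ha, (hpr b).1 hb, (hpr (a * b)).2 (fun h => ha ((hi.1 h).2 hb)), Subgroup.coe_mul,
        mul_assoc, (hH b).eq, ← mul_assoc]
    · rw [(hpr a).2 ha, (hpr b).2 hb, (hpr (a * b)).1 (hi.2 (iff_of_false ha hb)), Subgroup.coe_mul,
        mul_assoc (a : X) x, ← mul_assoc x, ← (hH b).eq, mul_assoc (b : X), S.sq x hx, mul_one])
  have hnb : ∀ y : H, (y : X) ∈ Nb E x → (φ y : X) ∈ T x := fun y hy => by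
    show (pr y : X) ∈ T x
    rw [(hpr y).2 (S.out _ hy.1), (hH y).eq]
    exact S.nb_mem P hx hy.1 hy.2.2 hy.2.1
  have hlift : ∀ k : ↥(Yc G₀ x), (k : X) ∈ T x → ∃ y : H, (y : X) ∈ Nb E x ∧ φ y = k := fun k hk => by
    have hy : x * (k : X) ∈ Nb E x := ⟨(S.pair_other hx hk).1, fun e => S.ne_one hx hk (mul_eq_left.1 e),
      (Commute.refl x).mul_right (S.comm_T hx hk)⟩
    refine ⟨⟨_, Subgroup.subset_closure hy⟩, hy, Subtype.ext ?_⟩
    show (pr _ : X) = k
    rw [(hpr _).2 (S.out _ hy.1), (hH _).eq]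
    show x * (x * (k : X)) = k
    rw [← mul_assoc, S.sq x hx, one_mul]
  have hsurj : Function.Surjective φ := MonoidHom.range_eq_top.1 (eq_top_iff.2 (by
    rw [← (S.m23 x hx).group.2.2, Subgroup.closure_le]
    intro k hk
    obtain ⟨y, -, rfl⟩ := hlift k hk
    exact ⟨y, rfl⟩))
  have hker : φ.ker = Subgroup.center H := by
    refine le_antisymm (fun g hg => Subgroup.mem_center_iff.2 fun w => Subtype.ext ?_) fun g hg => ?_
    · have h1 : (pr g : X) = 1 := congrArg Subtype.val (MonoidHom.mem_ker.1 hg)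
      show (w : X) * g = g * w
      by_cases h : (g : X) ∈ G₀
      · rw [(hpr g).1 h] at h1; rw [h1]; simp
      · rw [(hpr g).2 h, mul_eq_one_iff_eq_inv, S.inv_eq hx] at h1
        rw [h1]; exact (hH w).eq
    · rw [MonoidHom.mem_ker, ← Subgroup.mem_bot, ← S.center_Yc P hN hx, Subgroup.mem_center_iff]
      intro y
      obtain ⟨w, rfl⟩ := hsurj y
      rw [← map_mul, ← map_mul, Subgroup.mem_center_iff.1 hg]
  have hcore : ∀ p : ℕ, [Fact p.Prime] → Cfsg.pCore p H ≤ Subgroup.center H := fun p _ => by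
    rw [← hker]
    refine sSup_le ?_
    rintro N ⟨hNn, hNp⟩
    haveI := (S.m23 x hx).simple
    haveI := hNn.map φ hsurj
    rcases Subgroup.Normal.eq_bot_or_eq_top (H := N.map φ) inferInstance with e | e
    · exact (Subgroup.map_eq_bot_iff _).1 e
    · exfalso
      obtain ⟨n, hn⟩ := (hNp.map φ).exists_card_eq
      rw [e, Subgroup.card_top, (S.m23 x hx).card_group] at hn
      exact not_pow_card hn
  haveI : Fact (Nat.Prime 2) := ⟨Nat.prime_two⟩
  haveI : Fact (Nat.Prime 3) := ⟨Nat.prime_three⟩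
  have hL : FischerClass.Loc E := FischerClass.Loc.of_one hS hx (hcore 2) (hcore 3)
  let e : Q E x ≃* ↥(Yc G₀ x) :=
    (QuotientGroup.quotientMulEquivOfEq hker.symm).trans (QuotientGroup.quotientKerEquivOfSurjective φ hsurj)
  have hme : ∀ y : H, e (QuotientGroup.mk y) = φ y := fun y => rfl
  have h23 := S.m23 x hx
  obtain ⟨Φ, hΦ⟩ := FischerUnique23.exists_iso h23.group h23.prim h23.type
  refine FischerClassTy.step_m23 hL hx (Fi23Type.type_m23 (Φ.trans e.symm) ?_)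
  rw [MulEquiv.coe_trans, Set.image_comp, hΦ]
  ext q
  constructor
  · rintro ⟨k, hk, rfl⟩
    obtain ⟨y, hy, rfl⟩ := hlift k hk
    exact ⟨y, hy, by rw [← hme y, e.symm_apply_apply]⟩
  · rintro ⟨y, hy, rfl⟩
    exact ⟨φ y, hnb y hy, by rw [← hme y, e.symm_apply_apply]⟩

end Sys

end Cfsg.Agent.FischerAut24
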